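import Groth.Agent.Sga4h.H929.NSplit
import Groth.Agent.Sga4h.H582.ASCov

/-!
# Artin–Schreier covers and their base change

* `fe_asc` : `asc q g` is finite étale of degree `q`;
* `isPullback_asc` : base change along `f : R →+* S`;
* `asNpull` : `f^* (N_g F) ≅ N_{f g} (f^* F)`.
-/

set_option autoImplicit false
universe u

open CategoryTheory CategoryTheory.Limits AlgebraicGeometry Opposite Polynomial

namespace Groth.Agent.Sga4h.H929.ASC

open NDef CokFun EtCoh NSplit Groth.Agent.Sga4h.H582

variable {R : Type u} [CommRing R] {q : ℕ}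

theorem fe_asc (g : R) (hq : 2 ≤ q) (hqR : (q : R) = 0) : FE (asc q g) q where
  fin := ASCov.isFinite_cov q g hq
  et := ASCov.etale_cov q g hq hqR
  rk := ASCov.finrank_cov q g hq
  pos := by omega

variable {S : Type u} [CommRing S]

section ring

variable {T : Type u} [CommRing T] (f : R →+* S) (g : R) (g' : S) (h : f g = g')
  (a : S →+* T) (b : LangSh.ASAlg R q g →+* T) (hab : b.comp (algebraMap R _) = a.comp f)

include h hab in
theorem cond : (b (AdjoinRoot.root _)) ^ q - b (AdjoinRoot.root _) = a g' := by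
  have h1 : b (algebraMap R (LangSh.ASAlg R q g) g) = a (f g) := DFunLike.congr_fun hab g
  rw [← h, ← h1, ← ASCov.root_eq, map_sub, map_pow]

/-- the universal map -/
noncomputable def uni : LangSh.ASAlg S q g' →+* T :=
  ASCov.lift q g' a (b (AdjoinRoot.root _)) (cond f g g' h a b hab)

theorem uni_algebraMap : (uni f g g' h a b hab).comp (algebraMap S _) = a :=
  ASCov.lift_comp _ _ _ _ _

theorem uni_root : uni f g g' h a b hab (AdjoinRoot.root _) = b (AdjoinRoot.root _) :=
  ASCov.lift_root _ _ _ _ _

theorem mapHom_root : ASCov.mapHom q g f g' h (AdjoinRoot.root _) = AdjoinRoot.root _ :=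
  ASCov.lift_root _ _ _ _ _

theorem uni_mapHom : (uni f g g' h a b hab).comp (ASCov.mapHom q g f g' h) = b := by
  apply ASCov.hom_ext
  · rw [RingHom.comp_assoc, ASCov.mapHom_comp, ← RingHom.comp_assoc, uni_algebraMap, hab]
  · rw [RingHom.comp_apply, mapHom_root, uni_root]

end ring

theorem isPushout_asc (f : R →+* S) (g : R) (g' : S) (h : f g = g') :
    IsPushout (CommRingCat.ofHom (algebraMap R (LangSh.ASAlg R q g))) (CommRingCat.ofHom f)
      (CommRingCat.ofHom (ASCov.mapHom q g f g' h))
      (CommRingCat.ofHom (algebraMap S (LangSh.ASAlg S q g'))) where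
  w := by
    rw [← CommRingCat.ofHom_comp, ← CommRingCat.ofHom_comp, ASCov.mapHom_comp]
  isColimit' := ⟨PushoutCocone.IsColimit.mk _
    (fun s => CommRingCat.ofHom (uni f g g' h s.inr.hom s.inl.hom
      (congrArg CommRingCat.Hom.hom s.condition)))
    (fun s => CommRingCat.hom_ext (uni_mapHom f g g' h s.inr.hom s.inl.hom
      (congrArg CommRingCat.Hom.hom s.condition)))
    (fun s => CommRingCat.hom_ext (uni_algebraMap f g g' h s.inr.hom s.inl.hom
      (congrArg CommRingCat.Hom.hom s.condition)))
    (fun s m h1 h2 => by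
      apply CommRingCat.hom_ext
      apply ASCov.hom_ext
      · refine (congrArg CommRingCat.Hom.hom h2).trans ?_
        exact (uni_algebraMap f g g' h s.inr.hom s.inl.hom
          (congrArg CommRingCat.Hom.hom s.condition)).symm
      · refine Eq.trans ?_ (uni_root f g g' h s.inr.hom s.inl.hom
          (congrArg CommRingCat.Hom.hom s.condition)).symm
        have h3 := DFunLike.congr_fun (congrArg CommRingCat.Hom.hom h1) (AdjoinRoot.root _)
        refine Eq.trans (congrArg _ ?_) h3
        exact (mapHom_root f g g' h).symm)⟩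

theorem isPullback_asc (f : R →+* S) (g : R) (g' : S) (h : f g = g') :
    IsPullback (ASCov.covMap q g f g' h) (asc q g') (asc q g) (Spec.map (CommRingCat.ofHom f)) :=
  isPullback_SpecMap_of_isPushout _ _ _ _ (isPushout_asc f g g' h)

/-- `f^* (N_g F) ≅ N_{f g} (f^* F)` -/
noncomputable def asNpull (f : R →+* S) (g : R) (g' : S) (h : f g = g') (hq : 2 ≤ q) :
    asN q g ⋙ pull (Spec.map (CommRingCat.ofHom f)) ≅
      pull (Spec.map (CommRingCat.ofHom f)) ⋙ asN q g' :=
  haveI := ASCov.isFinite_cov q g hq
  NPull.pullIso (isPullback_asc f g g' h)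

end Groth.Agent.Sga4h.H929.ASC
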