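import Groth.Agent.Sga4h.H929.NPull
import Groth.Agent.Etcore.ShriekUnique

/-!
# `N_p` commutes with extension by zero

For a cartesian square `j' : V ⟶ Y`, `p' : V ⟶ U`, `p : Y ⟶ X`, `j : U ⟶ X` with `j` an open immersion
and `p` integral: `j_! (N_{p'} F) ≅ N_p (j_! F)` (`extZeroIso`).
-/

set_option autoImplicit false
universe u

open CategoryTheory CategoryTheory.Limits AlgebraicGeometry Opposite

namespace Groth.Agent.Sga4h.H929.NShriek

open NDef CokFun Groth.Agent.Sga4h.PushDer EtCoh Groth.Agent.Sga4h.EtaleRes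

theorem isZero_pull_of_stalk {X : Scheme.{u}} {Ω : Type u} [Field Ω] [IsSepClosed Ω]
    (ξ : Spec (CommRingCat.of Ω) ⟶ X) (F : Ab X) (h : IsZero ((stalk ξ).obj F)) :
    IsZero ((pull ξ).obj F) := by
  refine Etcore.Stalks.isZero_of_stalks _ fun x => ⟨Ω, inferInstance, inferInstance, 𝟙 _,
    Subsingleton.elim _ _, ?_⟩
  refine IsZero.of_iso ?_ ((Groth.Agent.Etbase.StalkPull.stalkPullIso ξ (𝟙 _)).symm.app F)
  rwa [Category.id_comp]

theorem isZero_stalk_of_pull {X : Scheme.{u}} {Ω : Type u} [Field Ω] [IsSepClosed Ω]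
    (ξ : Spec (CommRingCat.of Ω) ⟶ X) (F : Ab X) (h : IsZero ((pull ξ).obj F)) :
    IsZero ((stalk ξ).obj F) := by
  have h1 : IsZero ((stalk (𝟙 _)).obj ((pull ξ).obj F)) := (stalk (𝟙 _)).map_isZero h
  have h2 : IsZero ((stalk (𝟙 _ ≫ ξ)).obj F) :=
    h1.of_iso ((Groth.Agent.Etbase.StalkPull.stalkPullIso ξ (𝟙 _)).app F)
  rwa [Category.id_comp] at h2

/-- `N_p` does not enlarge the support. -/
theorem isZero_stalk_N {X Y : Scheme.{u}} (p : Y ⟶ X) [IsIntegralHom p] {Ω : Type u} [Field Ω]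
    [IsSepClosed Ω] (ξ : Spec (CommRingCat.of Ω) ⟶ X) (F : Ab X) (h : IsZero ((stalk ξ).obj F)) :
    IsZero ((stalk ξ).obj ((N p).obj F)) := by
  apply isZero_stalk_of_pull
  have H : IsPullback (pullback.snd ξ p) (pullback.fst ξ p) p ξ := (IsPullback.of_hasPullback ξ p).flip
  refine IsZero.of_iso ?_ ((NPull.pullIso H).app F)
  exact (N _).map_isZero (isZero_pull_of_stalk ξ F h)

variable {X Y U V : Scheme.{u}} {p : Y ⟶ X} {j : U ⟶ X} {p' : V ⟶ U} {j' : V ⟶ Y}

/-- `j_! (N_{p'} F) ≅ N_p (j_! F)` -/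
noncomputable def extZeroIso (H : IsPullback j' p' p j) [IsIntegralHom p] [IsOpenImmersion j]
    (F : Ab U) :
    (EtShriek.extZero j).obj ((N p').obj F) ≅ (N p).obj ((EtShriek.extZero j).obj F) :=
  haveI h1 : IsIso ((EtShriek.extZeroAdj j).counit.app ((N p).obj ((EtShriek.extZero j).obj F))) :=
    Etcore.ShriekUnique.isIso_counit_of_isZero_stalks j _ (fun Ω _ _ ξ hξ =>
      isZero_stalk_N p ξ _ (Etcore.ShriekUnique.isZero_stalk_extZero' j ξ
        (fun h => hξ ⟨default, rfl⟩ h) F))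
  haveI h2 : IsIso ((EtShriek.extZeroAdj j).unit.app F) := inferInstance
  (EtShriek.extZero j).mapIso
    ((N p').mapIso (asIso ((EtShriek.extZeroAdj j).unit.app F) ≪≫ (pullIsoRestr j).symm.app _) ≪≫
      (NPull.pullIso H).symm.app _ ≪≫ (pullIsoRestr j).app _) ≪≫
    asIso ((EtShriek.extZeroAdj j).counit.app ((N p).obj ((EtShriek.extZero j).obj F)))

end Groth.Agent.Sga4h.H929.NShriek
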