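import Groth.Agent.Sga4h.H929.NDef
import Groth.Agent.Etcore.PullJoint
import Groth.Agent.Sga4A.IntegralSection
import Groth.Agent.Etcore.LocEt
import Groth.Agent.Sga4h.PushDer
import Mathlib.AlgebraicGeometry.Morphisms.Integral

/-!
# Exactness of `N_p` for `p` integral and surjective

* `mono_unit`, `shortExact`;
* `N p` is exact (instances `preservesFiniteLimits_N`, `preservesFiniteColimits_N`) when `p` is integral
  and surjective;
* `injective_N`: `N p` preserves injectives if moreover `p` is étale.
-/

set_option autoImplicit false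
universe u

open CategoryTheory CategoryTheory.Limits AlgebraicGeometry Opposite

namespace Groth.Agent.Sga4h.H929.NExact

open NDef CokFun Groth.Agent.Sga4h.PushDer

variable {X Y : Scheme.{u}} (p : Y ⟶ X)

theorem mono_unit [Surjective p] (F : EtCoh.Ab X) : Mono ((EtCoh.pullPushAdj p).unit.app F) := by
  refine Etcore.PullJoint.mono_of_pull (fun _ : Unit => p)
    (fun x => let ⟨y, hy⟩ := p.surjective x; ⟨(), y, hy⟩) _ fun _ => ?_
  have h := (EtCoh.pullPushAdj p).left_triangle_components F
  have : Mono ((EtCoh.pull p).map ((EtCoh.pullPushAdj p).unit.app F) ≫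
      (EtCoh.pullPushAdj p).counit.app ((EtCoh.pull p).obj F)) := by
    rw [h]
    exact inferInstanceAs (Mono (𝟙 ((EtCoh.pull p).obj F)))
  exact mono_of_mono _ ((EtCoh.pullPushAdj p).counit.app ((EtCoh.pull p).obj F))

theorem shortExact [Surjective p] (F : EtCoh.Ab X) :
    (ShortComplex.mk ((EtCoh.pullPushAdj p).unit.app F) ((Nπ p).app F)
      (app_comp_π _ F)).ShortExact where
  exact := exact_col (EtCoh.pullPushAdj p).unit F
  mono_f := mono_unit p F
  epi_g := inferInstanceAs (Epi ((Nπ p).app F))

instance preservesFiniteColimits_push [IsIntegralHom p] : PreservesFiniteColimits (EtCoh.push p) :=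
  Groth.Agent.Sga4A.EtSplit.preservesFiniteColimits_push p

instance additive_pullpush : (EtCoh.pull p ⋙ EtCoh.push p).Additive := inferInstance

instance additive_N : (N p).Additive := inferInstance

theorem preserves_N [IsIntegralHom p] [Surjective p] :
    PreservesFiniteLimits (N p) ∧ PreservesFiniteColimits (N p) := by
  have h1 : PreservesFiniteLimits (EtCoh.pull p ⋙ EtCoh.push p) := comp_preservesFiniteLimits _ _
  have h2 : PreservesFiniteColimits (EtCoh.pull p ⋙ EtCoh.push p) :=
    comp_preservesFiniteColimits _ _
  exact CokFun.preserves (EtCoh.pullPushAdj p).unit (fun F => mono_unit p F)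

instance preservesFiniteLimits_N [IsIntegralHom p] [Surjective p] : PreservesFiniteLimits (N p) :=
  (preserves_N p).1

instance preservesFiniteColimits_N [IsIntegralHom p] [Surjective p] :
    PreservesFiniteColimits (N p) :=
  (preserves_N p).2

theorem injective_N [Surjective p] [Etale p] (I : EtCoh.Ab X) (hI : Injective I) :
    Injective ((N p).obj I) := by
  have h1 := Groth.Agent.Etcore.LocEt.injective_pull p I
  have h2 := push_injective p _ h1
  have h3 := mono_unit p I
  exact injective_cok (EtCoh.pullPushAdj p).unit (X := I) hI h2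

theorem isZero_rightDerived_N [IsIntegralHom p] [Surjective p] (F : EtCoh.Ab X) (q : ℕ) (hq : 0 < q) :
    IsZero (((N p).rightDerived q).obj F) := by
  obtain ⟨m, rfl⟩ := Nat.exists_eq_succ_of_ne_zero hq.ne'
  exact Groth.Agent.Etbase.PushExact.isZero_rightDerived_of_exact (N p) F m

end Groth.Agent.Sga4h.H929.NExact
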