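import Groth.Agent.Sga4h.H929.UH
import Groth.Agent.Sga4h.H929.NExact

/-!
# Isomorphisms between composites of direct and inverse images
-/

set_option autoImplicit false
universe u

open CategoryTheory CategoryTheory.Limits AlgebraicGeometry Opposite

namespace Groth.Agent.Sga4h.H929.CommLib

open EtCoh Groth.Agent.Sga4h.PushDer NExact

variable {X Y Z W : Scheme.{u}}

/-- `u^* p^* ≅ (u ≫ p)^*` -/
noncomputable def pullPull (u : Z ⟶ Y) (p : Y ⟶ X) (h : Z ⟶ X) (w : u ≫ p = h) (G : Ab X) :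
    (pull u).obj ((pull p).obj G) ≅ (pull h).obj G :=
  (EtCore.pullComp u p).symm.app G ≪≫ (EtCore.pullCongr w).app G

/-- `p_* u_* ≅ (u ≫ p)_*` -/
noncomputable def pushPush (u : Z ⟶ Y) (p : Y ⟶ X) (h : Z ⟶ X) (w : u ≫ p = h) (G : Ab Z) :
    (push p).obj ((push u).obj G) ≅ (push h).obj G :=
  (pushComp p u).app G ≪≫ (EtCoh.pushCongr w).app G

theorem nonempty_pp (u : Z ⟶ Y) (p : Y ⟶ X) (h : Z ⟶ X) (w : u ≫ p = h) [IsIntegralHom u]
    [UniversallyInjective u] [Surjective u] (G : Ab X) :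
    Nonempty ((push p).obj ((pull p).obj G) ≅ (push h).obj ((pull h).obj G)) := by
  have h1 := UH.isIso_unit u ((pull p).obj G)
  exact ⟨(push p).mapIso (asIso ((pullPushAdj u).unit.app ((pull p).obj G))) ≪≫
    pushPush u p h w _ ≪≫ (push h).mapIso (pullPull u p h w G)⟩

theorem nonempty_pull_comm (f : Z ⟶ Y) (g : Y ⟶ X) (f' : Z ⟶ W) (g' : W ⟶ X) (w : f ≫ g = f' ≫ g')
    (G : Ab X) : Nonempty ((pull f).obj ((pull g).obj G) ≅ (pull f').obj ((pull g').obj G)) :=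
  ⟨pullPull f g _ w G ≪≫ (pullPull f' g' _ rfl G).symm⟩

/-- `R^q f_* (u_* G) ≅ R^q (u ≫ f)_* G`, `u` integral -/
theorem nonempty_rpush_push (u : Z ⟶ Y) (f : Y ⟶ X) (h : Z ⟶ X) (w : u ≫ f = h) [IsIntegralHom u]
    (G : Ab Z) (q : ℕ) :
    Nonempty ((Rpush f q).obj ((push u).obj G) ≅ (Rpush h q).obj G) :=
  ⟨rpushCompIso u f G (fun p hp => Groth.Agent.Sga4A.EtSplit.isZero_Rpush u G p hp) q ≪≫
    (rpushCongr w q).app G⟩

/-- `R^q (f ≫ v)_* G ≅ v_* R^q f_* G`, `v` integral -/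
theorem nonempty_push_rpush (f : Z ⟶ Y) (v : Y ⟶ X) (h : Z ⟶ X) (w : f ≫ v = h) [IsIntegralHom v]
    (G : Ab Z) (q : ℕ) :
    Nonempty ((Rpush h q).obj G ≅ (push v).obj ((Rpush f q).obj G)) :=
  ⟨(rpushCongr w q).symm.app G ≪≫ rpushExactIso f v G q⟩

/-- `R^q f_* (u_* G) ≅ v_* R^q f'_* G` for `u ≫ f = f' ≫ v`, `u`, `v` integral -/
theorem nonempty_rpush_comm (u : Z ⟶ Y) (f : Y ⟶ X) (f' : Z ⟶ W) (v : W ⟶ X) (w : u ≫ f = f' ≫ v)
    [IsIntegralHom u] [IsIntegralHom v] (G : Ab Z) (q : ℕ) :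
    Nonempty ((Rpush f q).obj ((push u).obj G) ≅ (push v).obj ((Rpush f' q).obj G)) := by
  obtain ⟨e1⟩ := nonempty_rpush_push u f _ w G q
  obtain ⟨e2⟩ := nonempty_push_rpush f' v _ rfl G q
  exact ⟨e1 ≪≫ e2⟩

end Groth.Agent.Sga4h.H929.CommLib
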