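import Groth.Prelude.Def_EtBase
import Groth.Prelude.Def_PBC
import Groth.Prelude.Def_EtShriek2
import Mathlib.AlgebraicGeometry.Morphisms.Smooth
import Mathlib.AlgebraicGeometry.Morphisms.Proper
import Mathlib.AlgebraicGeometry.Morphisms.FiniteType

/-!
# Statements of milestones used as hypotheses

They are proved in `H929.HypProof`; using them as hypotheses keeps the other modules light.
-/

set_option autoImplicit false
universe u

open CategoryTheory CategoryTheory.Limits AlgebraicGeometry Opposite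

namespace Groth.Agent.Sga4h.H929.Hyp

open EtCoh

/-- Smooth base change for one smooth morphism (`S0672`). -/
def SmoothBC : Prop :=
  ∀ {X S X' S' : Scheme.{u}} (f : X ⟶ S) [QuasiCompact f] [QuasiSeparated f] (g : S' ⟶ S) [Smooth g]
    (f' : X' ⟶ S') (g' : X' ⟶ X) (_ : IsPullback g' f' f g) (F : Ab X)
    (_ : EtPBC.IsTorsionInvertibleOn S F) (q : ℕ),
    Nonempty ((pull g).obj ((Rpush f q).obj F) ≅ (Rpush f' q).obj ((pull g').obj F))

/-- Finiteness over a field (`S3122`). -/
def FinCons : Prop :=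
  ∀ {K : Type u} [Field K] {X Y : Scheme.{u}} (b : Y ⟶ Spec (CommRingCat.of K)) [LocallyOfFiniteType b]
    [QuasiCompact b] (f : X ⟶ Y) [LocallyOfFiniteType f] [QuasiCompact f] (n : ℕ)
    (_ : (n : K) ≠ 0) (F : Ab X) (_ : EtPBC.IsConstructible F) (_ : KilledBy n F) (i : ℕ),
    EtPBC.IsConstructible ((Rpush f i).obj F)

/-- Proper base change (`S0001`). -/
def ProperBC : Prop :=
  ∀ {X S X' S' : Scheme.{u}} (f : X ⟶ S) [IsProper f] (g : S' ⟶ S)
    (f' : X' ⟶ S') (g' : X' ⟶ X) (_ : IsPullback g' f' f g) (F : Ab X) (_ : IsTorsion F) (q : ℕ),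
    Nonempty ((pull g).obj ((Rpush f q).obj F) ≅ (Rpush f' q).obj ((pull g').obj F))

/-- Homotopy invariance for the affine line over an affine base (`S3117`). -/
def LineAcyc : Prop :=
  ∀ (R : Type u) [CommRing R] (n : ℕ) (_ : IsUnit (n : R)) (F : Ab (Spec (CommRingCat.of R)))
    (_ : KilledBy n F),
    IsIso ((pullPushAdj (Spec.map (CommRingCat.ofHom (Polynomial.C : R →+* Polynomial R)))).unit.app F) ∧
      ∀ q : ℕ, 0 < q →
        IsZero ((Rpush (Spec.map (CommRingCat.ofHom (Polynomial.C : R →+* Polynomial R))) q).obj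
          ((pull (Spec.map (CommRingCat.ofHom (Polynomial.C : R →+* Polynomial R)))).obj F))

theorem isTorsionInvertibleOn_of_killedBy {S T : Scheme.{u}} {F : Ab T} {n : ℕ}
    (hn : IsUnit (n : Γ(S, ⊤))) (hF : KilledBy n F) : EtPBC.IsTorsionInvertibleOn S F :=
  fun U s x => ⟨U, 𝟙 U, n, ⟨x, rfl⟩, hn, by rw [hF]⟩

theorem isUnit_of_field {K : Type u} [Field K] {n : ℕ} (hn : (n : K) ≠ 0) {S : Scheme.{u}}
    (a : S ⟶ Spec (CommRingCat.of K)) : IsUnit (n : Γ(S, ⊤)) := by
  have h1 : IsUnit (n : K) := hn.isUnit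
  have h2 := (h1.map (Scheme.ΓSpecIso (CommRingCat.of K)).inv.hom).map a.appTop.hom
  rwa [map_natCast, map_natCast] at h2

end Groth.Agent.Sga4h.H929.Hyp
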