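import Groth.Agent.Sga4h.H929.CokFun
import Groth.Prelude.Def_EtBase
import Groth.Prelude.Def_EtShriek2
import Groth.Prelude.Def_PBC
import Groth.Prelude.Def_LangSh

/-!
# The functors `N_p` and `T^i` (definitions)

* `N p : Ab X ⥤ Ab X`, `N_p F = coker (F ⟶ p_* p^* F)` for `p : Y ⟶ X`;
* `asc q g : Spec R[z]/(z^q - z - g) ⟶ Spec R`, `asN q g = N (asc q g)`;
* `prx : G_m × A¹ ⟶ G_m`, `pra : G_m × A¹ ⟶ A¹` (rings `K[T;T⁻¹][X]`, `K[T;T⁻¹]`, `K[X]`);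
* `TT q i F = R^i pra_* (N_{a/x} (prx^* F))`;
* `WA q n T` : the conditions on a sheaf `T` on `A¹` which are reproduced by `T ↦ TT q 1 (T | G_m)`.
-/

set_option autoImplicit false
universe u

open CategoryTheory CategoryTheory.Limits AlgebraicGeometry Opposite Polynomial
open scoped LaurentPolynomial

namespace Groth.Agent.Sga4h.H929.NDef

section functor

variable {X Y : Scheme.{u}}

/-- `N_p F = coker (F ⟶ p_* p^* F)`. -/
noncomputable abbrev N (p : Y ⟶ X) : EtCoh.Ab X ⥤ EtCoh.Ab X :=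
  CokFun.cok (EtCoh.pullPushAdj p).unit

/-- The projection `p_* p^* F ⟶ N_p F`. -/
noncomputable abbrev Nπ (p : Y ⟶ X) : EtCoh.pull p ⋙ EtCoh.push p ⟶ N p :=
  CokFun.cokπ (EtCoh.pullPushAdj p).unit

end functor

section rings

variable {R : Type u} [CommRing R]

/-- The Artin–Schreier cover `z^q - z = g` of `Spec R`. -/
noncomputable abbrev asc (q : ℕ) (g : R) :
    Spec (CommRingCat.of (LangSh.ASAlg R q g)) ⟶ Spec (CommRingCat.of R) :=
  LangSh.cover R (LangSh.ASAlg R q g)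

/-- `N_g` for `g ∈ R`. -/
noncomputable abbrev asN (q : ℕ) (g : R) :
    EtCoh.Ab (Spec (CommRingCat.of R)) ⥤ EtCoh.Ab (Spec (CommRingCat.of R)) :=
  N (asc q g)

end rings

section line

variable (K : Type u) [Field K]

/-- `G_m ⟶ A¹` -/
noncomputable abbrev ι : Spec (CommRingCat.of K[T;T⁻¹]) ⟶ Spec (CommRingCat.of K[X]) :=
  Spec.map (CommRingCat.ofHom (Polynomial.toLaurent : Polynomial K →+* K[T;T⁻¹]))

/-- `G_m ⟶ A¹` around infinity -/
noncomputable abbrev ιinf : Spec (CommRingCat.of K[T;T⁻¹]) ⟶ Spec (CommRingCat.of K[X]) :=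
  Spec.map (CommRingCat.ofHom (Polynomial.aeval (LaurentPolynomial.T (-1) : K[T;T⁻¹])).toRingHom)

/-- the origin of `A¹` -/
noncomputable abbrev zero : Spec (CommRingCat.of K) ⟶ Spec (CommRingCat.of K[X]) :=
  Spec.map (CommRingCat.ofHom (Polynomial.evalRingHom (0 : K)))

/-- `A¹ ⟶ Spec K` -/
noncomputable abbrev str : Spec (CommRingCat.of K[X]) ⟶ Spec (CommRingCat.of K) :=
  Spec.map (CommRingCat.ofHom (Polynomial.C : K →+* K[X]))

/-- `G_m × A¹ ⟶ G_m` -/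
noncomputable abbrev prx :
    Spec (CommRingCat.of (K[T;T⁻¹])[X]) ⟶ Spec (CommRingCat.of K[T;T⁻¹]) :=
  Spec.map (CommRingCat.ofHom (Polynomial.C : K[T;T⁻¹] →+* (K[T;T⁻¹])[X]))

/-- `G_m × A¹ ⟶ A¹` -/
noncomputable abbrev pra :
    Spec (CommRingCat.of (K[T;T⁻¹])[X]) ⟶ Spec (CommRingCat.of K[X]) :=
  Spec.map (CommRingCat.ofHom (Polynomial.mapRingHom (LaurentPolynomial.C : K →+* K[T;T⁻¹])))

/-- the function `a / x` on `G_m × A¹` -/
noncomputable abbrev aox : (K[T;T⁻¹])[X] :=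
  Polynomial.C (LaurentPolynomial.T (-1) : K[T;T⁻¹]) * Polynomial.X

variable {K}

/-- `N_{a/x} (prx^* F)` on `G_m × A¹` -/
noncomputable abbrev MM (q : ℕ) (F : EtCoh.Ab (Spec (CommRingCat.of K[T;T⁻¹]))) :
    EtCoh.Ab (Spec (CommRingCat.of (K[T;T⁻¹])[X])) :=
  (asN q (aox K)).obj ((EtCoh.pull (prx K)).obj F)

/-- `T^i F = R^i pra_* (N_{a/x} (prx^* F))` -/
noncomputable abbrev TT (q i : ℕ) (F : EtCoh.Ab (Spec (CommRingCat.of K[T;T⁻¹]))) :
    EtCoh.Ab (Spec (CommRingCat.of K[X])) :=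
  (EtCoh.Rpush (pra K) i).obj (MM q F)

/-- The conditions on a sheaf on `A¹`. -/
structure WA (n : ℕ) (T : EtCoh.Ab (Spec (CommRingCat.of K[X]))) : Prop where
  cons : EtPBC.IsConstructible T
  killed : EtCoh.KilledBy n T
  /-- `H^i(A¹, T) = 0` -/
  hH : ∀ i : ℕ, IsZero ((EtCoh.Rpush (str K) i).obj T)
  /-- `H_c^i(A¹, T) = 0` -/
  hc : ∀ {P : Scheme.{u}} (j : Spec (CommRingCat.of K[X]) ⟶ P) [IsOpenImmersion j]
    (f : P ⟶ Spec (CommRingCat.of K)) [IsProper f], j ≫ f = str K →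
      ∀ i : ℕ, IsZero ((EtCoh.Rpush f i).obj ((EtShriek.extZero j).obj T))
  /-- `H^0(G_m, T) = 0` -/
  hG : IsZero ((EtCoh.Rpush (ι K ≫ str K) 0).obj ((EtCoh.pull (ι K)).obj T))

end line

end Groth.Agent.Sga4h.H929.NDef
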