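import Groth.Agent.Sga4h.H929.UH
import Groth.Agent.Sga4h.H929.ASC
import Mathlib.Algebra.Polynomial.Laurent
import Mathlib.Algebra.Polynomial.Expand

/-!
# The ring maps of the key lemma

* `Pow s q`: `q`-th powers are in the image of `s`;
* `sg : K[T;T⁻¹] →+* K[T;T⁻¹]`, `T ↦ T ^ q`, and `sp : K[X] →+* K[X]`, `X ↦ X ^ q`;
* `hh s q x : R[X] →+* R'[X]`, `X ↦ X ^ q - x ^ (q - 1) X`;
* `lineHom : ASAlg R[X] q (u X) → R[X]` isomorphism for a unit `u`;
* `up : ASAlg R[X] q (u X) →+* R'[X]` with `up ∘ algebraMap = hh`.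
-/

set_option autoImplicit false
universe u

open Polynomial
open scoped LaurentPolynomial
open LaurentPolynomial (T T_add T_pow isUnit_T exists_T_pow)

namespace Groth.Agent.Sga4h.H929.F0Alg

open NDef Groth.Agent.Sga4h.H582

section pow

variable {R R' : Type u} [CommRing R] [CommRing R'] (s : R →+* R') (q : ℕ)

/-- `q`-th powers are in the image. -/
def Pow : Prop := ∀ r' : R', ∃ r : R, s r = r' ^ q

variable {s}

theorem Pow.poly {p e : ℕ} [hp : Fact p.Prime] (hpR : (p : R') = 0) (h : Pow s (p ^ e))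
    (f : R[X] →+* R'[X]) (hf : ∀ r, f (C r) = C (s r)) (hX : ∃ r, f r = X ^ p ^ e) : Pow f (p ^ e) := by
  have hpX : (p : R'[X]) = 0 := by
    rw [← map_natCast (C : R' →+* R'[X]), hpR, C_0]
  intro w
  induction w using Polynomial.induction_on' with
  | add a b ha hb =>
    obtain ⟨a', ha⟩ := ha
    obtain ⟨b', hb⟩ := hb
    refine ⟨a' + b', ?_⟩
    rcases subsingleton_or_nontrivial R' with hR | hR
    · exact Subsingleton.elim _ _
    have : CharP R'[X] p := (CharP.charP_iff_prime_eq_zero hp.out).2 hpX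
    rw [map_add, ha, hb, add_pow_char_pow]
  | monomial n a =>
    obtain ⟨a', ha⟩ := h a
    obtain ⟨x', hx⟩ := hX
    refine ⟨C a' * x' ^ n, ?_⟩
    rw [map_mul, map_pow, hx, hf, ha, ← C_mul_X_pow_eq_monomial, mul_pow, C_pow, ← pow_mul, ← pow_mul,
      mul_comm n]

end pow

section laurent

variable {K : Type u} [Field K] (q : ℕ)

/-- `X ↦ X ^ q` -/
noncomputable abbrev sp : K[X] →+* K[X] := (expand K q).toRingHom

theorem sp_C (a : K) : sp q (C a) = C a := expand_C q a
theorem sp_X : sp (K := K) q X = X ^ q := expand_X q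

/-- the unit `T` -/
noncomputable def uT : (K[T;T⁻¹])ˣ := ⟨T 1, T (-1), by rw [← T_add]; simp, by rw [← T_add]; simp⟩

@[simp] theorem val_uT : ((uT : (K[T;T⁻¹])ˣ) : K[T;T⁻¹]) = T 1 := rfl
@[simp] theorem val_inv_uT : ((uT⁻¹ : (K[T;T⁻¹])ˣ) : K[T;T⁻¹]) = T (-1) := rfl

/-- `T ↦ T ^ q` -/
noncomputable def sg : K[T;T⁻¹] →+* K[T;T⁻¹] :=
  LaurentPolynomial.eval₂ LaurentPolynomial.C (uT ^ q)

theorem sg_C (a : K) : sg q (LaurentPolynomial.C a) = LaurentPolynomial.C a :=
  LaurentPolynomial.eval₂_C _ _ _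

theorem sg_T (n : ℤ) : sg (K := K) q (T n) = T n ^ q := by
  rw [sg, LaurentPolynomial.eval₂_T]
  have h : ∀ m : ℤ, (((uT : (K[T;T⁻¹])ˣ) ^ m : (K[T;T⁻¹])ˣ) : K[T;T⁻¹]) = T m := by
    intro m
    obtain ⟨k, rfl | rfl⟩ := m.eq_nat_or_neg
    · rw [zpow_natCast, Units.val_pow_eq_pow_val, val_uT, T_pow, mul_one]
    · rw [zpow_neg, zpow_natCast, ← inv_pow, Units.val_pow_eq_pow_val, val_inv_uT, T_pow]
      simp
  rw [← zpow_natCast, ← zpow_mul, mul_comm, zpow_mul, zpow_natCast, Units.val_pow_eq_pow_val, h]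

theorem sg_toLaurent : (sg q).comp (toLaurent : K[X] →+* K[T;T⁻¹]) =
    (toLaurent : K[X] →+* K[T;T⁻¹]).comp (sp q) := by
  apply Polynomial.ringHom_ext
  · intro a
    rw [RingHom.comp_apply, RingHom.comp_apply, toLaurent_C, sg_C, sp_C, toLaurent_C]
  · rw [RingHom.comp_apply, RingHom.comp_apply, toLaurent_X, sg_T, sp_X, map_pow, toLaurent_X]

theorem sp_injective (hq : 0 < q) : Function.Injective (sp (K := K) q) := expand_injective hq

theorem sg_injective (hq : 0 < q) : Function.Injective (sg (K := K) q) := by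
  rw [injective_iff_map_eq_zero]
  intro f hf
  obtain ⟨n, f', hf'⟩ := exists_T_pow f
  have h1 : toLaurent (sp q f') = 0 := by
    have := DFunLike.congr_fun (sg_toLaurent (K := K) q) f'
    rw [RingHom.comp_apply, RingHom.comp_apply, hf', map_mul, hf, zero_mul] at this
    exact this.symm
  have h2 : sp q f' = 0 := toLaurent_injective (by rw [h1, map_zero])
  have h3 : f' = 0 := sp_injective q hq (by rw [h2, map_zero])
  rw [h3, map_zero] at hf'
  exact ((isUnit_T n).mul_left_eq_zero).1 hf'.symm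

theorem pow_sp {p e : ℕ} [hp : Fact p.Prime] (hpK : (p : K) = 0) : Pow (sp (K := K) (p ^ e)) (p ^ e) := by
  intro w
  induction w using Polynomial.induction_on' with
  | add a b ha hb =>
    obtain ⟨a', ha⟩ := ha
    obtain ⟨b', hb⟩ := hb
    refine ⟨a' + b', ?_⟩
    have hpX : (p : K[X]) = 0 := by rw [← map_natCast (C : K →+* K[X]), hpK, C_0]
    have : CharP K[X] p := (CharP.charP_iff_prime_eq_zero hp.out).2 hpX
    rw [map_add, ha, hb, add_pow_char_pow]
  | monomial n a =>
    refine ⟨C (a ^ p ^ e) * X ^ n, ?_⟩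
    rw [map_mul, sp_C, map_pow (sp (p ^ e)), sp_X, ← C_mul_X_pow_eq_monomial, mul_pow, C_pow,
      ← pow_mul, ← pow_mul, mul_comm n]

theorem pow_sg {p e : ℕ} [hp : Fact p.Prime] (hpK : (p : K) = 0) : Pow (sg (K := K) (p ^ e)) (p ^ e) := by
  intro w
  induction w using LaurentPolynomial.induction_on' with
  | add a b ha hb =>
    obtain ⟨a', ha⟩ := ha
    obtain ⟨b', hb⟩ := hb
    refine ⟨a' + b', ?_⟩
    have hpX : (p : K[T;T⁻¹]) = 0 := by
      rw [← map_natCast (LaurentPolynomial.C : K →+* K[T;T⁻¹]), hpK, map_zero]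
    have : CharP K[T;T⁻¹] p := (CharP.charP_iff_prime_eq_zero hp.out).2 hpX
    rw [map_add, ha, hb, add_pow_char_pow]
  | C_mul_T n a =>
    refine ⟨LaurentPolynomial.C (a ^ p ^ e) * T n, ?_⟩
    rw [map_mul, sg_T, sg_C, mul_pow, map_pow]

end laurent

section hh

variable {R R' : Type u} [CommRing R] [CommRing R'] (s : R →+* R') (q : ℕ) (x : R')

/-- `X ↦ X ^ q - x ^ (q - 1) X` -/
noncomputable def hh : R[X] →+* R'[X] := eval₂RingHom (C.comp s) (X ^ q - C (x ^ (q - 1)) * X)

@[simp] theorem hh_C (r : R) : hh s q x (C r) = C (s r) := by simp [hh]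
@[simp] theorem hh_X : hh s q x X = X ^ q - C (x ^ (q - 1)) * X := by simp [hh]

theorem hh_comp_C : (hh s q x).comp C = C.comp s := by
  ext r
  simp

end hh

section line

variable {R : Type u} [CommRing R] (q : ℕ) (u : Rˣ)

/-- `R[X] → R[X][z]/(z^q - z - u X)`, `X ↦ z`. -/
noncomputable def lineInv : R[X] →+* LangSh.ASAlg R[X] q (C (u : R) * X) :=
  eval₂RingHom ((algebraMap R[X] (LangSh.ASAlg R[X] q (C (u : R) * X))).comp C) (AdjoinRoot.root _)

theorem lineInv_C (x : R) : lineInv q u (C x) = algebraMap R[X] (LangSh.ASAlg R[X] q _) (C x) := by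
  simp [lineInv]

theorem lineInv_X : lineInv q u X = AdjoinRoot.root _ := by
  simp [lineInv]

/-- `X ↦ u⁻¹ (X^q - X)` -/
noncomputable def lineBase : R[X] →+* R[X] :=
  eval₂RingHom C (C ((u⁻¹ : Rˣ) : R) * (X ^ q - X))

theorem lineBase_C (x : R) : lineBase q u (C x) = C x := by
  simp [lineBase]

theorem lineBase_X : lineBase q u X = C ((u⁻¹ : Rˣ) : R) * (X ^ q - X) := by
  simp [lineBase]

theorem lineBase_lin : lineBase q u (C (u : R) * X) = X ^ q - X := by
  rw [map_mul, lineBase_C, lineBase_X, ← mul_assoc, ← C_mul, Units.mul_inv, C_1, one_mul]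

/-- `R[X][z]/(z^q - z - u X) → R[X]`, `z ↦ X`. -/
noncomputable def lineHom : LangSh.ASAlg R[X] q (C (u : R) * X) →+* R[X] :=
  ASCov.lift q _ (lineBase q u) X (by rw [lineBase_lin q u])

theorem lineHom_algebraMap : (lineHom q u).comp (algebraMap R[X] _) = lineBase q u :=
  ASCov.lift_comp _ _ _ _ _

theorem lineHom_root : lineHom q u (AdjoinRoot.root _) = X :=
  ASCov.lift_root _ _ _ _ _

theorem lineHom_comp_inv : (lineHom q u).comp (lineInv q u) = RingHom.id _ := by
  apply Polynomial.ringHom_ext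
  · intro x
    rw [RingHom.comp_apply, lineInv_C]
    have := DFunLike.congr_fun (lineHom_algebraMap q u) (C x)
    refine this.trans ?_
    rw [lineBase_C]
    rfl
  · rw [RingHom.comp_apply, lineInv_X]
    exact lineHom_root _ _

theorem lineInv_comp_hom : (lineInv q u).comp (lineHom q u) = RingHom.id _ := by
  apply ASCov.hom_ext
  · apply Polynomial.ringHom_ext
    · intro x
      have := DFunLike.congr_fun (lineHom_algebraMap q u) (C x)
      change lineInv q u (lineHom q u _) = _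
      refine (congrArg _ this).trans ?_
      rw [lineBase_C, lineInv_C]
      rfl
    · have := DFunLike.congr_fun (lineHom_algebraMap q u) X
      change lineInv q u (lineHom q u _) = _
      refine (congrArg _ this).trans ?_
      rw [lineBase_X, map_mul, map_sub, map_pow, lineInv_C, lineInv_X, ASCov.root_eq, ← map_mul]
      change _ = algebraMap R[X] (LangSh.ASAlg R[X] q (C (u : R) * X)) X
      congr 1
      rw [← mul_assoc, ← C_mul, Units.inv_mul, C_1, one_mul]
  · change lineInv q u (lineHom q u _) = _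
    rw [lineHom_root, lineInv_X]
    rfl

end line

section up

variable {R R' : Type u} [CommRing R] [CommRing R'] (s : R →+* R') (q : ℕ) (u : Rˣ) (x : R'ˣ)

/-- `X ↦ x⁻¹ X` -/
noncomputable def up0 : R[X] →+* R'[X] := eval₂RingHom (C.comp s) (C ((x⁻¹ : R'ˣ) : R') * X)

@[simp] theorem up0_C (r : R) : up0 s x (C r) = C (s r) := by simp [up0]
@[simp] theorem up0_X : up0 s x X = C ((x⁻¹ : R'ˣ) : R') * X := by simp [up0]

theorem up0_eq (w : R[X]) : up0 s x w = (w.map s).comp (C ((x⁻¹ : R'ˣ) : R') * X) := by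
  have h : up0 s x = (compRingHom (C ((x⁻¹ : R'ˣ) : R') * X)).comp (mapRingHom s) := by
    apply Polynomial.ringHom_ext
    · intro r
      simp
    · simp
  rw [h]
  rfl

theorem up0_injective (hs : Function.Injective s) : Function.Injective (up0 s x) := by
  rw [injective_iff_map_eq_zero]
  intro w hw
  rw [up0_eq] at hw
  have h1 : ∀ n, (w.map s).coeff n = 0 := by
    intro n
    have h2 := congrArg (fun f => f.coeff n) hw
    simp only [comp_C_mul_X_coeff, coeff_zero] at h2
    exact ((x⁻¹).isUnit.pow n).mul_left_eq_zero.1 h2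
  have h3 : w.map s = 0 := by
    ext n
    rw [h1, coeff_zero]
  exact (Polynomial.map_eq_zero_iff hs).1 h3

variable (hux : (x : R') ^ q * s u = 1)

/-- `z ↦ x⁻¹ X` -/
noncomputable def up : LangSh.ASAlg R[X] q (C (u : R) * X) →+* R'[X] := (up0 s x).comp (lineHom q u)

include hux in
theorem up_algebraMap (hq : 1 ≤ q) :
    (up s q u x).comp (algebraMap R[X] _) = hh s q (x : R') := by
  have h0 : (up s q u x).comp (algebraMap R[X] _) = (up0 s x).comp (lineBase q u) := by
    rw [up, RingHom.comp_assoc, lineHom_algebraMap]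
  rw [h0]
  have h1 : s ((u⁻¹ : Rˣ) : R) = (x : R') ^ q := by
    have h2 : s u * s ((u⁻¹ : Rˣ) : R) = 1 := by rw [← map_mul, Units.mul_inv, map_one]
    calc s ((u⁻¹ : Rˣ) : R) = (x : R') ^ q * s u * s ((u⁻¹ : Rˣ) : R) := by rw [hux, one_mul]
      _ = _ := by rw [mul_assoc, h2, mul_one]
  apply Polynomial.ringHom_ext
  · intro r
    rw [RingHom.comp_apply, lineBase_C, up0_C, hh_C]
  · rw [RingHom.comp_apply, lineBase_X, hh_X, map_mul, map_sub, map_pow, up0_C, up0_X, h1, mul_pow,
      mul_sub, ← mul_assoc, ← mul_assoc, ← C_pow, ← C_mul, ← C_mul, ← mul_pow, Units.mul_inv, one_pow,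
      C_1, one_mul]
    congr 3
    obtain ⟨m, rfl⟩ := Nat.exists_eq_add_of_le hq
    rw [add_comm 1 m, pow_succ, mul_assoc, Units.mul_inv, mul_one, Nat.add_sub_cancel]

theorem up_injective (hs : Function.Injective s) : Function.Injective (up s q u x) := by
  have h1 : Function.Injective (lineHom q u) := by
    have := lineInv_comp_hom q u
    exact Function.LeftInverse.injective (g := lineInv q u) (DFunLike.congr_fun this)
  exact (up0_injective s x hs).comp h1

theorem up_pow {p e : ℕ} [hp : Fact p.Prime] (hpR : (p : R') = 0) (h : Pow s (p ^ e)) :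
    Pow (up s (p ^ e) u x) (p ^ e) := by
  have h1 : Pow (up0 s x) (p ^ e) := by
    refine Pow.poly hpR h _ (up0_C s x) ?_
    obtain ⟨d, hd⟩ := h (x : R')
    refine ⟨C d * X ^ p ^ e, ?_⟩
    rw [map_mul, map_pow, up0_X, up0_C, hd, mul_pow, ← mul_assoc, ← C_pow, ← C_mul, ← mul_pow,
      Units.mul_inv, one_pow, C_1, one_mul]
  intro w
  obtain ⟨r, hr⟩ := h1 w
  refine ⟨lineInv _ u r, ?_⟩
  change up0 s x (lineHom _ u (lineInv _ u r)) = _
  have := DFunLike.congr_fun (lineHom_comp_inv (p ^ e) u) r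
  rw [← hr]
  exact congrArg _ this

end up

end Groth.Agent.Sga4h.H929.F0Alg
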