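import Groth.Agent.Sga4h.H929.HP.Smooth
import Groth.Agent.Sga4h.H929.HP.Fin
import Groth.Agent.Sga4h.H929.HP.Proper
import Groth.Agent.Sga4h.H929.HP.Line
import Groth.Agent.Sga4h.H929.HP.Shriek
import Groth.Agent.Sga4h.H929.HP.Aff

/-!
# All hypotheses used in `H929`, `H15`, `H182`, `H961`, `H137`

`HP.Smooth.smoothBC`, `HP.Fin.finCons`, `HP.Proper.properBC`, `HP.Line.lineAcyc`,
`HP.Shriek.shriekProper`, `HP.Aff.affCurve`.
-/
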