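import Groth.Agent.Sga4h.H929.NSplit
import Groth.Agent.Etbase.StalkPush
import Groth.Agent.Sga2lef.H97.FieldCons
import Groth.Agent.Etrest.FinCons
import Groth.Agent.Sga4h.EulerPoint

/-!
# Stalks: finiteness for constructible sheaves, inverse images, finite direct images
-/

set_option autoImplicit false
universe u

open CategoryTheory CategoryTheory.Limits AlgebraicGeometry Opposite

namespace Groth.Agent.Sga4h.H929.StalkLib

open EtCoh

variable {X Y : Scheme.{u}} {Ω : Type u} [Field Ω]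

/-- `(f^* F)_ξ ≅ F_{ξ ≫ f}` -/
noncomputable def stalkPull [IsSepClosed Ω] (f : X ⟶ Y) (ξ : Spec (CommRingCat.of Ω) ⟶ X) (F : Ab Y) :
    (stalk ξ).obj ((pull f).obj F) ≅ (stalk (ξ ≫ f)).obj F :=
  ((Groth.Agent.Etbase.StalkPull.stalkPullIso f ξ).app F).symm

theorem killedBy_obj (G : Ab X ⥤ Ab Y) [G.Additive] {n : ℕ} {F : Ab X} (h : KilledBy n F) :
    KilledBy n (G.obj F) := by
  rw [Groth.Agent.Sga5.EtKilled.killedBy_iff] at h ⊢
  rw [← G.map_id, ← Functor.map_nsmul, h, G.map_zero]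

/-- an isomorphism of sheaves gives a bijection on stalks -/
theorem stalkEquiv [IsSepClosed Ω] (ξ : Spec (CommRingCat.of Ω) ⟶ X) {F G : Ab X}
    (h : Nonempty (F ≅ G)) : Nonempty ((stalk ξ).obj F ≃ (stalk ξ).obj G) := by
  obtain ⟨e⟩ := h
  exact ⟨((forget AddCommGrpCat).mapIso ((stalk ξ).mapIso e)).toEquiv⟩

theorem stalkPullEquiv [IsSepClosed Ω] (f : X ⟶ Y) (ξ : Spec (CommRingCat.of Ω) ⟶ X) (F : Ab Y) :
    Nonempty ((stalk ξ).obj ((pull f).obj F) ≃ (stalk (ξ ≫ f)).obj F) :=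
  ⟨((forget AddCommGrpCat).mapIso (stalkPull f ξ F)).toEquiv⟩

/-- Stalks of constructible sheaves are finite. -/
theorem finite_stalk [IsSepClosed Ω] (ξ : Spec (CommRingCat.of Ω) ⟶ X) {F : Ab X}
    (hF : EtPBC.IsConstructible F) : Finite ((stalk ξ).obj F) := by
  have h1 : EtPBC.IsConstructible ((pull ξ).obj F) := Etrest.FinCons.cons_pull ξ hF
  have h2 := Sga2lef.H97.FieldCons.isFLC_of_isConstructible _ h1
  have h3 : Subsingleton (Spec (CommRingCat.of Ω)) := inferInstanceAs (Subsingleton (PrimeSpectrum Ω))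
  have h4 : Finite ((stalk (𝟙 _)).obj ((pull ξ).obj F)) := EulerPoint.finite_stalk (𝟙 _) h2
  have e := ((forget AddCommGrpCat).mapIso (stalkPull ξ (𝟙 _) F)).toEquiv
  have h5 : Finite ((stalk (𝟙 _ ≫ ξ)).obj F) := Finite.of_equiv _ e
  rwa [Category.id_comp] at h5

/-- A finite direct image at a point with a unique lift. -/
theorem nonempty_equiv_push [IsAlgClosed Ω] (f : X ⟶ Y) [IsFinite f] (ζ : Spec (CommRingCat.of Ω) ⟶ X)
    (hζ : ∀ ζ' : Spec (CommRingCat.of Ω) ⟶ X, ζ' ≫ f = ζ ≫ f → ζ' = ζ) (F : Ab X) :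
    Nonempty ((stalk (ζ ≫ f)).obj ((push f).obj F) ≃ (stalk ζ).obj F) := by
  have h := Etbase.StalkPush.bijective_cmp (η := ζ ≫ f) f F
  refine ⟨Equiv.ofBijective (fun x => Etbase.StalkPush.cmp f ζ rfl F x) ⟨fun x y hxy => ?_, fun z => ?_⟩⟩
  · apply h.1
    funext ξ
    obtain ⟨ξ, hξ⟩ := ξ
    obtain rfl := hζ ξ hξ
    exact hxy
  · obtain ⟨x, hx⟩ := h.2 (fun ξ => cast (by rw [hζ ξ.1 ξ.2]) z)
    exact ⟨x, congrFun hx ⟨ζ, rfl⟩⟩

end Groth.Agent.Sga4h.H929.StalkLib
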