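import Groth.Agent.Sga4h.H929.F0Sch
import Groth.Agent.Sga4h.H929.CommLib
import Groth.Agent.Sga4h.H929.StalkLib
import Groth.Agent.Sga4h.H929.Hyp

/-!
# The key lemma at `x = 0`

`F` constructible on `G_m`, killed by `n` prime to `p`: the stalks of `R^i j_* N_{a/x} (prx^* F)`,
`j : G_m × A¹ ⟶ A¹ × A¹`, vanish at all geometric points with `x = 0`.
-/

set_option autoImplicit false
universe u

open CategoryTheory CategoryTheory.Limits AlgebraicGeometry Opposite Polynomial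
open scoped LaurentPolynomial
open LaurentPolynomial (T T_add T_pow isUnit_T exists_T_pow)

namespace Groth.Agent.Sga4h.H929.F0

open EtCoh NDef F0Alg F0Sch StalkLib CommLib Hyp NSplit

variable {K : Type u} [Field K] {p e : ℕ} [hp : Fact p.Prime]

theorem two_le (he : 1 ≤ e) : 2 ≤ p ^ e := by
  calc 2 ≤ p := hp.out.two_le
    _ = p ^ 1 := (pow_one p).symm
    _ ≤ p ^ e := Nat.pow_le_pow_right hp.out.pos he

theorem coprime (hpK : (p : K) = 0) {n : ℕ} (hn : (n : K) ≠ 0) : (p ^ e).Coprime n := by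
  apply Nat.Coprime.pow_left
  rw [Nat.Prime.coprime_iff_not_dvd hp.out]
  rintro ⟨m, rfl⟩
  exact hn (by rw [Nat.cast_mul, hpK, zero_mul])

theorem cast_eq_zero {A : Type u} [CommRing A] (hpA : (p : A) = 0) (he : 1 ≤ e) :
    ((p ^ e : ℕ) : A) = 0 := by
  rw [Nat.cast_pow, hpA, zero_pow (by omega)]

section lift

variable {Ω : Type u} [Field Ω] (φ : (K[X])[X] →+* Ω) (hφ : φ (C X) = 0)
  (β : Ω) (hβ : β ^ (p ^ e) = φ X)

/-- the unique lift of a point with `x = 0` -/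
noncomputable def lft : (K[X])[X] →+* Ω :=
  eval₂RingHom (eval₂RingHom ((φ.comp C).comp C) 0) β

include hφ hβ in
theorem lft_hh (he : 1 ≤ e) : (lft φ β).comp (hh (sp (K := K) (p ^ e)) (p ^ e) (X : K[X])) = φ := by
  have hq := two_le (p := p) he
  apply Polynomial.ringHom_ext
  · intro f
    rw [RingHom.comp_apply, hh_C]
    have h1 : (((lft φ β).comp C).comp (sp (p ^ e)) : K[X] →+* Ω) = φ.comp C := by
      apply Polynomial.ringHom_ext
      · intro a
        simp [lft]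
      · simp only [lft, RingHom.comp_apply, sp_X, map_pow, coe_eval₂RingHom, eval₂_C, eval₂_X, hφ]
        exact zero_pow (by omega)
    exact DFunLike.congr_fun h1 f
  · rw [RingHom.comp_apply, hh_X]
    simp only [lft, map_sub, map_mul, map_pow, coe_eval₂RingHom, eval₂_X, eval₂_C, hβ]
    rw [zero_pow (by omega : p ^ e - 1 ≠ 0), zero_mul, sub_zero]

include hφ hβ in
theorem lft_unique (hpK : (p : K) = 0) (he : 1 ≤ e) (ψ : (K[X])[X] →+* Ω)
    (hψ : ψ.comp (hh (sp (K := K) (p ^ e)) (p ^ e) (X : K[X])) = φ) : ψ = lft φ β := by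
  have hq := two_le (p := p) he
  have hΩ : (p : Ω) = 0 := by
    have := congrArg ((φ.comp C).comp C) hpK
    rwa [map_natCast, map_zero] at this
  have h1 : ψ (C X) = 0 := by
    have h2 := DFunLike.congr_fun hψ (C X)
    rw [RingHom.comp_apply, hh_C, sp_X, C_pow, map_pow, hφ] at h2
    exact pow_eq_zero_iff (by omega) |>.1 h2
  have h3 : ∀ a, ψ (C (C a)) = φ (C (C a)) := by
    intro a
    have h2 := DFunLike.congr_fun hψ (C (C a))
    rwa [RingHom.comp_apply, hh_C, sp_C] at h2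
  have h4 : ψ X = β := by
    have h2 := DFunLike.congr_fun hψ X
    rw [RingHom.comp_apply, hh_X, map_sub, map_mul, map_pow, C_pow, map_pow, h1,
      zero_pow (by omega : p ^ e - 1 ≠ 0), zero_mul, sub_zero, ← hβ] at h2
    exact UH.pow_inj hΩ e h2
  apply Polynomial.ringHom_ext
  · intro f
    have h5 : ψ.comp C = (lft φ β).comp C := by
      apply Polynomial.ringHom_ext
      · intro a
        simp [lft, h3]
      · simp [lft, h1]
    exact DFunLike.congr_fun h5 f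
  · simp [lft, h4]

end lift

theorem main (hS : SmoothBC.{u}) (hF : FinCons.{u}) (hpK : (p : K) = 0) (he : 1 ≤ e) {n : ℕ}
    (hn : (n : K) ≠ 0) (F : Ab (Spec (CommRingCat.of K[T;T⁻¹]))) (hFc : EtPBC.IsConstructible F)
    (hFn : KilledBy n F) (i : ℕ) {Ω : Type u} [Field Ω] [IsAlgClosed Ω] (φ : (K[X])[X] →+* Ω)
    (hφ : φ (C X) = 0) :
    Subsingleton ((stalk (Spec.map (CommRingCat.ofHom φ))).obj
      ((Rpush (jB K) i).obj (MM (p ^ e) F))) := by
  have hq := two_le (p := p) he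
  let q := p ^ e
  obtain ⟨β, hβ⟩ := IsAlgClosed.exists_pow_nat_eq (φ X) (pow_pos hp.out.pos e)
  let ξ : Spec (CommRingCat.of Ω) ⟶ Spec (CommRingCat.of (K[X])[X]) := Spec.map (CommRingCat.ofHom φ)
  let ζ : Spec (CommRingCat.of Ω) ⟶ Spec (CommRingCat.of (K[X])[X]) :=
    Spec.map (CommRingCat.ofHom (lft φ β))
  have hζ : ζ ≫ hE K q = ξ := by
    change Spec.map _ ≫ Spec.map _ = Spec.map _
    rw [← Spec.map_comp, ← CommRingCat.ofHom_comp]
    exact congrArg _ (congrArg _ (lft_hh φ hφ β hβ he))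
  have hζu : ∀ ζ' : Spec (CommRingCat.of Ω) ⟶ Spec (CommRingCat.of (K[X])[X]),
      ζ' ≫ hE K q = ζ ≫ hE K q → ζ' = ζ := by
    intro ζ' h'
    obtain ⟨ψ, rfl⟩ := Spec.map_surjective ζ'
    rw [hζ] at h'
    have h1 : Spec.map (CommRingCat.ofHom (hh (sp (K := K) q) q (X : K[X])) ≫ ψ) =
        Spec.map (CommRingCat.ofHom φ) := by
      rw [Spec.map_comp]
      exact h'
    have h2 := congrArg CommRingCat.Hom.hom (Spec.map_injective h1)
    have h3 := lft_unique φ hφ β hβ hpK he ψ.hom h2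
    change Spec.map ψ = Spec.map (CommRingCat.ofHom (lft φ β))
    rw [← h3]
    rfl
  have i1 := isFinite_hE (K := K) hpK he
  have i2 := isFinite_Sp (K := K) (e := e) hpK
  have i3 := isIntegralHom_U (K := K) (e := e) hpK
  have i4 := universallyInjective_U (K := K) (e := e) hpK
  have i5 := surjective_U (K := K) (e := e) hpK
  have i6 := isIntegralHom_Sg (K := K) (e := e) hpK
  have i7 := universallyInjective_Sg (K := K) (e := e) hpK
  have i8 := surjective_Sg (K := K) (e := e) hpK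
  have i9 := universallyInjective_Sp (K := K) (e := e) hpK
  have hqD : ((p ^ e : ℕ) : (K[T;T⁻¹])[X]) = 0 := cast_eq_zero (hpLX hpK) he
  have hfe : FE (asc (p ^ e) (aox K)) (p ^ e) := ASC.fe_asc (aox K) hq hqD
  have i10 := hfe.fin
  have i11 : IsIntegralHom (hD K (p ^ e)) := by
    rw [← U_asc K (p ^ e) (by omega)]
    infer_instance
  have hinvA : IsUnit (n : Γ(Spec (CommRingCat.of K[X]), ⊤)) := isUnit_of_field hn (str K)
  have i13 : Smooth (pr0 K) := smooth_C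
  let Fτ := (pull (Sg K (p ^ e))).obj F
  have hFτn : KilledBy n Fτ := killedBy_obj _ hFn
  let G := (pull (prx K)).obj F
  have hGn : KilledBy n G := killedBy_obj _ hFn
  -- smooth base change
  obtain ⟨s1⟩ := hS (ι K) (pr0 K) (jB K) (prx K) (isPullback_jB K).flip F
    (isTorsionInvertibleOn_of_killedBy hinvA hFn) i
  obtain ⟨s2⟩ := hS (ι K) (pr0 K) (jB K) (prx K) (isPullback_jB K).flip Fτ
    (isTorsionInvertibleOn_of_killedBy hinvA hFτn) i
  have hcF : EtPBC.IsConstructible ((Rpush (ι K) i).obj F) :=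
    hF (str K) (ι K) n hn F hFc hFn i
  have hξ0 : (ζ ≫ pr0 K) ≫ Sp K (p ^ e) = ξ ≫ pr0 K := by
    rw [Category.assoc, ← hE_pr0, ← Category.assoc, hζ]
  have hadd : (Rpush (jB K) i ⋙ stalk ξ).Additive := inferInstance
  obtain ⟨f1⟩ := stalkEquiv ξ ⟨s1.symm⟩
  obtain ⟨f2⟩ := stalkPullEquiv (pr0 K) ξ ((Rpush (ι K) i).obj F)
  have hfin : Finite ((Rpush (jB K) i ⋙ stalk ξ).obj G) := by
    have h1 : Finite ((stalk (ξ ≫ pr0 K)).obj ((Rpush (ι K) i).obj F)) :=
      finite_stalk (ξ ≫ pr0 K) hcF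
    exact Finite.of_equiv _ (f1.trans f2).symm
  refine hfe.subsingleton_N (coprime hpK hn) hGn (Rpush (jB K) i ⋙ stalk ξ) ?_
  -- the direct image of the covering
  obtain ⟨e1⟩ := nonempty_pp (U K (p ^ e)) (asc (p ^ e) (aox K)) (hD K (p ^ e))
    (U_asc K (p ^ e) (by omega)) G
  obtain ⟨e2⟩ := nonempty_pull_comm (hD K (p ^ e)) (prx K) (prx K) (Sg K (p ^ e))
    (hD_prx K (p ^ e)) F
  obtain ⟨e3⟩ := nonempty_rpush_comm (hD K (p ^ e)) (jB K) (jB K) (hE K (p ^ e))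
    (hD_jB K (p ^ e)) ((pull (prx K)).obj Fτ) i
  obtain ⟨g1⟩ := stalkEquiv ξ ⟨(Rpush (jB K) i).mapIso (e1 ≪≫ (push (hD K (p ^ e))).mapIso e2) ≪≫ e3⟩
  obtain ⟨g2⟩ := nonempty_equiv_push (hE K (p ^ e)) ζ hζu ((Rpush (jB K) i).obj ((pull (prx K)).obj Fτ))
  rw [hζ] at g2
  obtain ⟨g3⟩ := stalkEquiv ζ ⟨s2.symm⟩
  obtain ⟨g4⟩ := stalkPullEquiv (pr0 K) ζ ((Rpush (ι K) i).obj Fτ)
  -- the other side
  have j1 := UH.isIso_unit (Sg K (p ^ e)) F
  obtain ⟨k1⟩ := nonempty_rpush_comm (Sg K (p ^ e)) (ι K) (ι K) (Sp K (p ^ e))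
    (Sg_ι K (p ^ e)) Fτ i
  obtain ⟨k2⟩ := stalkEquiv (ξ ≫ pr0 K) ⟨(Rpush (ι K) i).mapIso
    (asIso ((pullPushAdj (Sg K (p ^ e))).unit.app F)) ≪≫ k1⟩
  obtain ⟨k3⟩ := nonempty_equiv_push (Sp K (p ^ e)) (ζ ≫ pr0 K) (fun ζ' h' => by
    have h1 := (tfae_universallyInjective (f := Sp K (p ^ e))).out 0 1
    exact (h1.1 i9 Ω) h') ((Rpush (ι K) i).obj Fτ)
  rw [hξ0] at k3
  exact ⟨g1.trans (g2.trans (g3.trans (g4.trans (k3.symm.trans (k2.symm.trans
    (f2.symm.trans f1.symm))))))⟩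

end Groth.Agent.Sga4h.H929.F0
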