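import Groth.Agent.Sga4h.H929.F0Alg
import Mathlib.AlgebraicGeometry.Morphisms.Finite
import Mathlib.RingTheory.FiniteType
import Mathlib.RingTheory.Smooth.Basic
import Mathlib.AlgebraicGeometry.Morphisms.Smooth

/-!
# The schemes of the key lemma
-/

set_option autoImplicit false
universe u

open CategoryTheory CategoryTheory.Limits AlgebraicGeometry Opposite Polynomial
open scoped LaurentPolynomial
open LaurentPolynomial (T T_add T_pow isUnit_T exists_T_pow)

namespace Groth.Agent.Sga4h.H929.F0Sch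

open NDef F0Alg Groth.Agent.Sga4h.H582

section ring

variable {R S : Type u} [CommRing R] [CommRing S]

theorem isPushout_poly (f : R →+* S) :
    IsPushout (CommRingCat.ofHom (C : R →+* R[X])) (CommRingCat.ofHom f)
      (CommRingCat.ofHom (mapRingHom f)) (CommRingCat.ofHom (C : S →+* S[X])) where
  w := by
    rw [← CommRingCat.ofHom_comp, ← CommRingCat.ofHom_comp]
    congr 1
    ext r
    simp
  isColimit' := ⟨PushoutCocone.IsColimit.mk _
    (fun s => CommRingCat.ofHom (eval₂RingHom s.inr.hom (s.inl.hom X)))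
    (fun s => by
      apply CommRingCat.hom_ext
      apply Polynomial.ringHom_ext
      · intro r
        have h1 : s.inl.hom (C r) = s.inr.hom (f r) :=
          DFunLike.congr_fun (congrArg CommRingCat.Hom.hom s.condition) r
        simpa using h1.symm
      · simp)
    (fun s => by
      apply CommRingCat.hom_ext
      ext r
      simp)
    (fun s m h1 h2 => by
      apply CommRingCat.hom_ext
      apply Polynomial.ringHom_ext
      · intro r
        have h3 := DFunLike.congr_fun (congrArg CommRingCat.Hom.hom h2) r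
        simpa using h3
      · have h3 := DFunLike.congr_fun (congrArg CommRingCat.Hom.hom h1) X
        simpa using h3)⟩

theorem isPullback_poly (f : R →+* S) :
    IsPullback (Spec.map (CommRingCat.ofHom (mapRingHom f)))
      (Spec.map (CommRingCat.ofHom (C : S →+* S[X])))
      (Spec.map (CommRingCat.ofHom (C : R →+* R[X]))) (Spec.map (CommRingCat.ofHom f)) :=
  isPullback_SpecMap_of_isPushout _ _ _ _ (isPushout_poly f)

theorem smooth_C : Smooth (Spec.map (CommRingCat.ofHom (C : R →+* R[X]))) := by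
  rw [HasRingHomProperty.Spec_iff (P := @Smooth)]
  have h1 : Algebra.Smooth R R[X] := ⟨inferInstance, inferInstance⟩
  have h2 : (algebraMap R R[X]).Smooth := by
    rw [RingHom.smooth_algebraMap]
    exact h1
  exact h2

/-- `R[X] → R[X]`, `X ↦ X ^ q - c X` is integral -/
theorem isIntegral_sub (q : ℕ) (hq : 2 ≤ q) (c : R) :
    (eval₂RingHom (C : R →+* R[X]) (X ^ q - C c * X)).IsIntegral := by
  set α := eval₂RingHom (C : R →+* R[X]) (X ^ q - C c * X) with hα
  have hC : ∀ r, α (C r) = C r := fun r => by simp [hα]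
  have hX : α X = X ^ q - C c * X := by simp [hα]
  have h1 : α.IsIntegralElem X := by
    rcases subsingleton_or_nontrivial R with hR | hR
    · exact ⟨1, monic_one, Subsingleton.elim _ _⟩
    refine ⟨X ^ q - (C (C c) * X + C X), ?_, ?_⟩
    · refine monic_X_pow_sub (n := q) ?_
      refine lt_of_le_of_lt (degree_add_le _ _) ?_
      rw [max_lt_iff]
      constructor
      · refine lt_of_le_of_lt (degree_mul_le _ _) ?_
        refine lt_of_le_of_lt (add_le_add degree_C_le degree_X_le) ?_
        rw [zero_add]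
        exact_mod_cast hq
      · refine lt_of_le_of_lt degree_C_le ?_
        exact_mod_cast (by omega : 0 < q)
    · rw [eval₂_sub, eval₂_add, eval₂_mul, eval₂_X_pow, eval₂_C, eval₂_C, eval₂_X, hC, hX]
      ring
  intro w
  induction w using Polynomial.induction_on' with
  | add a b ha hb => exact ha.add _ hb
  | monomial n a =>
    rw [← C_mul_X_pow_eq_monomial]
    refine RingHom.IsIntegralElem.mul _ ?_ ?_
    · rw [← hC a]
      exact α.isIntegralElem_map
    · induction n with
      | zero => rw [pow_zero]; exact α.isIntegralElem_one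
      | succ n ih => rw [pow_succ]; exact RingHom.IsIntegralElem.mul _ ih h1

theorem isIntegral_hh (s : R →+* S) (hs : (mapRingHom s).IsIntegral) (q : ℕ) (hq : 2 ≤ q) (x : S) :
    (hh s q x).IsIntegral := by
  have h : hh s q x = (eval₂RingHom (C : S →+* S[X]) (X ^ q - C (x ^ (q - 1)) * X)).comp
      (mapRingHom s) := by
    apply Polynomial.ringHom_ext
    · intro r; simp
    · simp
  rw [h]
  exact RingHom.IsIntegral.trans _ _ hs (isIntegral_sub q hq _)

end ring

section sch

variable (K : Type u) [Field K] (q : ℕ)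

/-- `G_m × A¹ ⟶ A¹ × A¹` -/
noncomputable abbrev jB : Spec (CommRingCat.of (K[T;T⁻¹])[X]) ⟶ Spec (CommRingCat.of (K[X])[X]) :=
  Spec.map (CommRingCat.ofHom (mapRingHom (Polynomial.toLaurent : K[X] →+* K[T;T⁻¹])))

/-- `A¹ × A¹ ⟶ A¹` -/
noncomputable abbrev pr0 : Spec (CommRingCat.of (K[X])[X]) ⟶ Spec (CommRingCat.of K[X]) :=
  Spec.map (CommRingCat.ofHom (C : K[X] →+* (K[X])[X]))

/-- `(τ, b) ↦ (τ ^ q, b ^ q - τ ^ (q - 1) b)` on `A¹ × A¹` -/
noncomputable abbrev hE : Spec (CommRingCat.of (K[X])[X]) ⟶ Spec (CommRingCat.of (K[X])[X]) :=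
  Spec.map (CommRingCat.ofHom (hh (sp (K := K) q) q (X : K[X])))

/-- `(τ, b) ↦ (τ ^ q, b ^ q - τ ^ (q - 1) b)` on `G_m × A¹` -/
noncomputable abbrev hD : Spec (CommRingCat.of (K[T;T⁻¹])[X]) ⟶ Spec (CommRingCat.of (K[T;T⁻¹])[X]) :=
  Spec.map (CommRingCat.ofHom (hh (sg (K := K) q) q (T 1 : K[T;T⁻¹])))

/-- `T ↦ T ^ q` -/
noncomputable abbrev Sg : Spec (CommRingCat.of K[T;T⁻¹]) ⟶ Spec (CommRingCat.of K[T;T⁻¹]) :=
  Spec.map (CommRingCat.ofHom (sg q))

/-- `X ↦ X ^ q` -/
noncomputable abbrev Sp : Spec (CommRingCat.of K[X]) ⟶ Spec (CommRingCat.of K[X]) :=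
  Spec.map (CommRingCat.ofHom (sp q))

/-- the universal homeomorphism onto the Artin–Schreier cover -/
noncomputable abbrev U : Spec (CommRingCat.of (K[T;T⁻¹])[X]) ⟶
    Spec (CommRingCat.of (LangSh.ASAlg (K[T;T⁻¹])[X] q (aox K))) :=
  Spec.map (CommRingCat.ofHom (up (sg (K := K) q) q (uT⁻¹ : (K[T;T⁻¹])ˣ) uT))

theorem hux : ((uT : (K[T;T⁻¹])ˣ) : K[T;T⁻¹]) ^ q * sg q ((uT⁻¹ : (K[T;T⁻¹])ˣ) : K[T;T⁻¹]) = 1 := by
  rw [val_uT, val_inv_uT, sg_T, ← mul_pow, ← T_add]
  simp

theorem U_asc (hq : 1 ≤ q) : U K q ≫ asc q (aox K) = hD K q := by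
  rw [U, asc, LangSh.cover, hD, ← Spec.map_comp, ← CommRingCat.ofHom_comp]
  congr 2
  exact up_algebraMap (sg (K := K) q) q uT⁻¹ uT (hux K q) hq

theorem hD_jB : hD K q ≫ jB K = jB K ≫ hE K q := by
  rw [hD, jB, hE, ← Spec.map_comp, ← Spec.map_comp, ← CommRingCat.ofHom_comp, ← CommRingCat.ofHom_comp]
  congr 2
  apply Polynomial.ringHom_ext
  · intro r
    have h := DFunLike.congr_fun (sg_toLaurent (K := K) q) r
    simp only [RingHom.comp_apply, coe_mapRingHom, map_C, hh_C]
    congr 1
  · simp only [RingHom.comp_apply, coe_mapRingHom, map_X, hh_X, Polynomial.map_sub,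
      Polynomial.map_pow, Polynomial.map_mul, map_C]
    congr 3
    rw [map_pow, toLaurent_X]

theorem hD_prx : hD K q ≫ prx K = prx K ≫ Sg K q := by
  rw [hD, prx, Sg, ← Spec.map_comp, ← Spec.map_comp, ← CommRingCat.ofHom_comp, ← CommRingCat.ofHom_comp,
    hh_comp_C]

theorem hE_pr0 : hE K q ≫ pr0 K = pr0 K ≫ Sp K q := by
  rw [hE, pr0, Sp, ← Spec.map_comp, ← Spec.map_comp, ← CommRingCat.ofHom_comp, ← CommRingCat.ofHom_comp,
    hh_comp_C]

theorem Sg_ι : Sg K q ≫ ι K = ι K ≫ Sp K q := by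
  rw [Sg, ι, Sp, ← Spec.map_comp, ← Spec.map_comp, ← CommRingCat.ofHom_comp, ← CommRingCat.ofHom_comp,
    sg_toLaurent]

theorem isPullback_jB : IsPullback (jB K) (prx K) (pr0 K) (ι K) := isPullback_poly _

instance isOpenImmersion_ι : IsOpenImmersion (ι K) := by
  have h : (Polynomial.toLaurent : K[X] →+* K[T;T⁻¹]) = algebraMap K[X] K[T;T⁻¹] := rfl
  rw [ι, h]
  exact IsOpenImmersion.of_isLocalization (X : K[X])

instance isOpenImmersion_jB : IsOpenImmersion (jB K) :=
  MorphismProperty.of_isPullback (P := @IsOpenImmersion) (isPullback_jB K).flip inferInstance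

instance lft_str : LocallyOfFiniteType (str K) := by
  rw [HasRingHomProperty.Spec_iff (P := @LocallyOfFiniteType)]
  have : (algebraMap K K[X]).FiniteType := RingHom.finiteType_algebraMap.2 inferInstance
  exact this

variable {K}

section uh

variable {p e : ℕ} [hp : Fact p.Prime] (hpK : (p : K) = 0)

include hpK in
theorem hpL : (p : K[T;T⁻¹]) = 0 := by
  rw [← map_natCast (LaurentPolynomial.C : K →+* K[T;T⁻¹]), hpK, map_zero]

include hpK in
theorem hpX : (p : K[X]) = 0 := by
  rw [← map_natCast (C : K →+* K[X]), hpK, map_zero]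

include hpK in
theorem hpLX : (p : (K[T;T⁻¹])[X]) = 0 := by
  rw [← map_natCast (C : K[T;T⁻¹] →+* _), hpL hpK, map_zero]

theorem ker_le {A B : Type u} [CommRing A] [CommRing B] (s : A →+* B) (h : Function.Injective s) :
    RingHom.ker s ≤ nilradical A := by
  rw [(RingHom.injective_iff_ker_eq_bot s).1 h]
  exact bot_le

include hpK in
theorem pow_up : Pow (up (sg (K := K) (p ^ e)) (p ^ e) (uT⁻¹ : (K[T;T⁻¹])ˣ) uT) (p ^ e) :=
  up_pow (sg (K := K) (p ^ e)) uT⁻¹ uT (hpL hpK) (pow_sg hpK)

include hpK in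
theorem isIntegralHom_U : IsIntegralHom (U K (p ^ e)) := UH.isIntegralHom _ e (pow_up hpK)

include hpK in
theorem universallyInjective_U : UniversallyInjective (U K (p ^ e)) :=
  UH.universallyInjective _ e (hpLX hpK) (pow_up hpK)

include hpK in
theorem surjective_U : Surjective (U K (p ^ e)) :=
  UH.surjective _ e (pow_up hpK) (ker_le _ (up_injective _ _ _ _
    (sg_injective _ (pow_pos hp.out.pos e))))

include hpK in
theorem isIntegralHom_Sg : IsIntegralHom (Sg K (p ^ e)) := UH.isIntegralHom _ e (pow_sg hpK)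

include hpK in
theorem universallyInjective_Sg : UniversallyInjective (Sg K (p ^ e)) :=
  UH.universallyInjective _ e (hpL hpK) (pow_sg hpK)

include hpK in
theorem surjective_Sg : Surjective (Sg K (p ^ e)) :=
  UH.surjective _ e (pow_sg hpK) (ker_le _ (sg_injective _ (pow_pos hp.out.pos e)))

include hpK in
theorem universallyInjective_Sp : UniversallyInjective (Sp K (p ^ e)) :=
  UH.universallyInjective _ e (hpX hpK) (pow_sp hpK)

include hpK in
theorem isFinite_Sp : IsFinite (Sp K (p ^ e)) := by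
  have h1 : IsIntegralHom (Sp K (p ^ e)) := UH.isIntegralHom _ e (pow_sp hpK)
  rw [IsIntegralHom.SpecMap_iff] at h1
  rw [IsFinite.SpecMap_iff]
  refine RingHom.IsIntegral.to_finite h1 ?_
  have h2 : ((sp (K := K) (p ^ e)).comp (C : K →+* K[X])).FiniteType := by
    have h3 : (sp (K := K) (p ^ e)).comp (C : K →+* K[X]) = algebraMap K K[X] := by
      ext a
      rw [RingHom.comp_apply, sp_C]
      rfl
    rw [h3, RingHom.finiteType_algebraMap]
    infer_instance
  exact RingHom.FiniteType.of_comp_finiteType h2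

include hpK in
theorem isFinite_hE (he : 1 ≤ e) : IsFinite (hE K (p ^ e)) := by
  have hq : 2 ≤ p ^ e := by
    calc 2 ≤ p := hp.out.two_le
      _ = p ^ 1 := (pow_one p).symm
      _ ≤ p ^ e := Nat.pow_le_pow_right hp.out.pos he
  have h1 : (mapRingHom (sp (K := K) (p ^ e))).IsIntegral := by
    have h2 : IsIntegralHom (Sp K (p ^ e)) := UH.isIntegralHom _ e (pow_sp hpK)
    have h3 : IsIntegralHom (Spec.map (CommRingCat.ofHom (mapRingHom (sp (K := K) (p ^ e))))) :=
      MorphismProperty.of_isPullback (isPullback_poly (sp (K := K) (p ^ e))).flip h2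
    rwa [IsIntegralHom.SpecMap_iff] at h3
  rw [IsFinite.SpecMap_iff]
  refine RingHom.IsIntegral.to_finite (isIntegral_hh _ h1 _ hq _) ?_
  have h2 : ((hh (sp (K := K) (p ^ e)) (p ^ e) (X : K[X])).comp
      ((C : K[X] →+* (K[X])[X]).comp (C : K →+* K[X]))).FiniteType := by
    have h3 : (hh (sp (K := K) (p ^ e)) (p ^ e) (X : K[X])).comp
      ((C : K[X] →+* (K[X])[X]).comp (C : K →+* K[X])) = algebraMap K (K[X])[X] := by
      ext a : 1
      rw [RingHom.comp_apply, RingHom.comp_apply, hh_C, sp_C]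
      rfl
    rw [h3, RingHom.finiteType_algebraMap]
    infer_instance
  exact RingHom.FiniteType.of_comp_finiteType h2

end uh

end sch

end Groth.Agent.Sga4h.H929.F0Sch
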