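import Groth.Agent.Sga4h.LerayAcyc

/-!
# Derived functors of natural transformations which are isomorphisms on injectives
-/

set_option autoImplicit false

open CategoryTheory CategoryTheory.Limits

namespace Groth.Agent.Sga4h.H929.DerInj

universe v₁ v₂ v₃ u₁ u₂ u₃

variable {A : Type u₁} {B : Type u₂} {C : Type u₃} [Category.{v₁} A] [Category.{v₂} B] [Category.{v₃} C]
  [Abelian A] [Abelian B] [Abelian C] [HasInjectiveResolutions A] [HasInjectiveResolutions B]

theorem isIso_mapHomologicalComplex {F G : A ⥤ B} [F.Additive] [G.Additive] (α : F ⟶ G)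
    (K : CochainComplex A ℕ) (h : ∀ n, IsIso (α.app (K.X n))) :
    IsIso ((NatTrans.mapHomologicalComplex α (ComplexShape.up ℕ)).app K) := by
  have : ∀ n, IsIso (((NatTrans.mapHomologicalComplex α (ComplexShape.up ℕ)).app K).f n) := h
  exact HomologicalComplex.Hom.isIso_of_components _

theorem isIso_rightDerived_app {F G : A ⥤ B} [F.Additive] [G.Additive] (α : F ⟶ G)
    (h : ∀ I : A, Injective I → IsIso (α.app I)) (q : ℕ) (M : A) :
    IsIso ((NatTrans.rightDerived α q).app M) := by
  let P := injectiveResolution M
  have h1 := isIso_mapHomologicalComplex α P.cocomplex (fun n => h _ (P.injective n))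
  rw [P.rightDerived_app_eq α q]
  infer_instance

/-- derived functors of functors which agree on injectives -/
noncomputable def rightDerivedIsoOfInj {F G : A ⥤ B} [F.Additive] [G.Additive] (α : F ⟶ G)
    (h : ∀ I : A, Injective I → IsIso (α.app I)) (q : ℕ) :
    F.rightDerived q ≅ G.rightDerived q :=
  haveI := fun M => isIso_rightDerived_app α h q M
  NatIso.ofComponents (fun M => asIso ((NatTrans.rightDerived α q).app M))
    (fun f => (NatTrans.rightDerived α q).naturality f)

end Groth.Agent.Sga4h.H929.DerInj
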