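import Groth.Agent.Sga4h.H929.NExact
import Groth.Agent.Sga4h.H929.DerInj
import Groth.Agent.EtpbcB.BCFlat
import Groth.Agent.EtpbcB.BCCalc
import Mathlib.AlgebraicGeometry.Geometrically.Connected

/-!
# `N_p` commutes with (higher) direct images

For a cartesian square `p' : Y' ⟶ X'`, `g : X' ⟶ X`, `g' : Y' ⟶ Y`, `p : Y ⟶ X` with `p` integral, étale
and surjective: `R^i g_* (N_{p'} F) ≅ N_p (R^i g_* F)` (`rpushIso`).
-/

set_option autoImplicit false
universe u

open CategoryTheory CategoryTheory.Limits AlgebraicGeometry Opposite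

namespace Groth.Agent.Sga4h.H929.NPush

open NDef CokFun Groth.Agent.Sga4h.PushDer EtCoh Groth.Agent.EtpbcB.BCCalc

theorem geometricallyConnected_id (X : Scheme.{u}) : GeometricallyConnected (𝟙 X) := by
  refine ⟨fun K _ y Z fst snd h => ?_⟩
  have h1 : IsIso snd := h.isIso_snd_of_isIso
  have h2 : ConnectedSpace ↥(Spec (CommRingCat.of K)) :=
    inferInstanceAs (ConnectedSpace (PrimeSpectrum K))
  have h3 := (TopCat.homeoOfIso (asIso snd.base)).symm
  exact h3.surjective.connectedSpace h3.continuous

/-- étale base change in degree zero. -/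
theorem isIso_baseChange0_of_etale {X Y X' Y' : Scheme.{u}} {f : X ⟶ Y} {g : Y' ⟶ Y} {f' : X' ⟶ Y'}
    {g' : X' ⟶ X} (H : IsPullback g' f' f g) [Etale g] (F : EtCoh.Ab X) :
    IsIso (EtCoh.baseChange0 f g f' g' H.w F) := by
  refine EtpbcB.BCFlat.isIso_baseChange0_of_factor H F fun U y =>
    ⟨U.left, U.left, 𝟙 _, 𝟙 _, U.hom ≫ g, inferInstance, ⟨y, rfl⟩, inferInstance, ?_, inferInstance,
      inferInstance, geometricallyConnected_id _⟩
  rfl

variable {X Y X' Y' : Scheme.{u}} {p : Y ⟶ X} {g : X' ⟶ X} {p' : Y' ⟶ X'} {g' : Y' ⟶ Y}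

/-- `p_* p^* g_* G ⟶ g_* p'_* p'^* G`. -/
noncomputable def th (w : p' ≫ g = g' ≫ p) :
    push g ⋙ pull p ⋙ push p ⟶ (pull p' ⋙ push p') ⋙ push g where
  app G := (push p).map (baseChange0 g p g' p' w G) ≫ (sq w).inv.app ((pull p').obj G)
  naturality F G φ := by
    have h1 := Etcore.PullJoint.baseChange0_naturality g p g' p' w φ
    have h2 := (sq w).inv.naturality ((pull p').map φ)
    have h2' : (push p).map ((push g').map ((pull p').map φ)) ≫ (sq w).inv.app ((pull p').obj G) =
      (sq w).inv.app ((pull p').obj F) ≫ (push g).map ((push p').map ((pull p').map φ)) := h2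
    change (push p).map ((pull p).map ((push g).map φ)) ≫ (push p).map (baseChange0 g p g' p' w G) ≫
      (sq w).inv.app ((pull p').obj G) = ((push p).map (baseChange0 g p g' p' w F) ≫
        (sq w).inv.app ((pull p').obj F)) ≫ (push g).map ((push p').map ((pull p').map φ))
    rw [Category.assoc, ← h2', ← Category.assoc, ← Functor.map_comp, h1, Functor.map_comp,
      Category.assoc]

@[reassoc]
theorem unit_th (w : p' ≫ g = g' ≫ p) (G : Ab X') :
    (pullPushAdj p).unit.app ((push g).obj G) ≫ (th w).app G =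
      (push g).map ((pullPushAdj p').unit.app G) := by
  have h := unit_baseChange0 w G
  have h' : (pullPushAdj p).unit.app ((push g).obj G) ≫ (push p).map (baseChange0 g p g' p' w G) ≫
      (sq w).inv.app ((pull p').obj G) = ((push g).map ((pullPushAdj p').unit.app G) ≫
        (sq w).hom.app ((pull p').obj G)) ≫ (sq w).inv.app ((pull p').obj G) := by
    rw [← h, Category.assoc]
  refine h'.trans ?_
  rw [Category.assoc, Iso.hom_inv_id_app]
  exact Category.comp_id _

theorem isIso_th (H : IsPullback p' g' g p) [Etale p] (G : Ab X') : IsIso ((th H.w).app G) := by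
  have h1 := isIso_baseChange0_of_etale H G
  exact inferInstanceAs (IsIso ((push p).map (baseChange0 g p g' p' H.w G) ≫
    (sq H.w).inv.app ((pull p').obj G)))

/-- `N_p g_* ⟶ g_* N_{p'}` -/
noncomputable def cc (w : p' ≫ g = g' ≫ p) : push g ⋙ N p ⟶ N p' ⋙ push g where
  app G := desc (pullPushAdj p).unit (X := (push g).obj G) ((th w).app G ≫ (push g).map ((Nπ p').app G))
    (by
      rw [← Category.assoc, unit_th]
      refine ((push g).map_comp _ _).symm.trans ?_
      rw [app_comp_π, Functor.map_zero])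
  naturality F G φ := by
    rw [← cancel_epi ((Nπ p).app ((push g).obj F))]
    have h1 := (Nπ p).naturality ((push g).map φ)
    have h2 : (Nπ p).app ((push g).obj F) ≫ (N p).map ((push g).map φ) =
      (pull p ⋙ push p).map ((push g).map φ) ≫ (Nπ p).app ((push g).obj G) := h1.symm
    have h3 := (th w).naturality φ
    have h4 := (Nπ p').naturality φ
    change (Nπ p).app ((push g).obj F) ≫ (N p).map ((push g).map φ) ≫ _ =
      (Nπ p).app ((push g).obj F) ≫ _ ≫ (push g).map ((N p').map φ)
    rw [reassoc_of% h2, π_desc, π_desc_assoc, Category.assoc, ← Functor.map_comp, ← h4,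
      Functor.map_comp]
    exact (reassoc_of% h3) _

@[reassoc]
theorem π_cc (w : p' ≫ g = g' ≫ p) (G : Ab X') :
    (Nπ p).app ((push g).obj G) ≫ (cc w).app G = (th w).app G ≫ (push g).map ((Nπ p').app G) :=
  π_desc _ _ _

theorem isIso_cc_of_epi (H : IsPullback p' g' g p) [Etale p] [Surjective p'] (G : Ab X')
    [Epi ((push g).map ((Nπ p').app G))] : IsIso ((cc H.w).app G) := by
  have i1 := isIso_th H G
  obtain ⟨t, ht1, ht2⟩ := i1.out
  let S : ShortComplex (Ab X') := ShortComplex.mk ((pullPushAdj p').unit.app G) ((Nπ p').app G)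
    (app_comp_π _ G)
  have hS : S.ShortExact := NExact.shortExact p' G
  have hSg : (S.map (push g)).Exact := by
    have h0 : PreservesFiniteLimits (push g) := inferInstance
    have h1 := (push g).preservesFiniteLimits_tfae
    have h2 : ∀ S : ShortComplex (Ab X'), S.ShortExact →
      (S.map (push g)).Exact ∧ Mono ((push g).map S.f) := (h1.out 0 3).2 h0
    exact (h2 S hS).1
  have hep : Epi (S.map (push g)).g := inferInstanceAs (Epi ((push g).map ((Nπ p').app G)))
  have hc : IsColimit (CokernelCofork.ofπ (S.map (push g)).g (S.map (push g)).zero) :=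
    hSg.gIsCokernel
  obtain ⟨b, hb⟩ : ∃ b : (push g).obj ((N p').obj G) ⟶ (N p).obj ((push g).obj G),
      (push g).map ((Nπ p').app G) ≫ b = t ≫ (Nπ p).app ((push g).obj G) := by
    have h0 : (push g).map ((pullPushAdj p').unit.app G) ≫ t ≫ (Nπ p).app ((push g).obj G) = 0 := by
      have h3 : (pullPushAdj p).unit.app ((push g).obj G) ≫ (Nπ p).app ((push g).obj G) = 0 :=
        app_comp_π _ _
      rw [← unit_th H.w, Category.assoc, reassoc_of% ht1]
      exact h3
    exact ⟨hc.desc (CokernelCofork.ofπ (t ≫ (Nπ p).app ((push g).obj G)) h0),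
      Cofork.IsColimit.π_desc hc⟩
  refine ⟨b, ?_, ?_⟩
  · rw [← cancel_epi ((Nπ p).app ((push g).obj G)), π_cc_assoc, hb, reassoc_of% ht1]
    exact (Category.comp_id _).symm
  · have : Epi ((push g).map ((Nπ p').app G)) := inferInstance
    rw [← cancel_epi ((push g).map ((Nπ p').app G)), ← Category.assoc, hb, Category.assoc, π_cc,
      reassoc_of% ht2]
    exact (Category.comp_id _).symm

theorem isIso_cc_of_injective (H : IsPullback p' g' g p) [Etale p] [Surjective p'] (G : Ab X')
    (hG : Injective G) : IsIso ((cc H.w).app G) := by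
  let S : ShortComplex (Ab X') := ShortComplex.mk ((pullPushAdj p').unit.app G) ((Nπ p').app G)
    (app_comp_π _ G)
  have hS : S.ShortExact := NExact.shortExact p' G
  have : Injective S.X₁ := hG
  have s := hS.splittingOfInjective
  have : IsSplitEpi ((push g).map ((Nπ p').app G)) :=
    ⟨⟨(push g).map s.s, by
      rw [← Functor.map_comp]
      exact (congrArg _ s.s_g).trans ((push g).map_id _)⟩⟩
  exact isIso_cc_of_epi H G

/-- `R^q g_* (N_{p'} F) ≅ N_p (R^q g_* F)`. -/
noncomputable def rpushIso (H : IsPullback p' g' g p) [Etale p] [Surjective p] [IsIntegralHom p]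
    (F : Ab X') (q : ℕ) :
    (Rpush g q).obj ((N p').obj F) ≅ (N p).obj ((Rpush g q).obj F) :=
  haveI : Etale p' := MorphismProperty.of_isPullback H.flip inferInstance
  haveI : Surjective p' := MorphismProperty.of_isPullback H.flip inferInstance
  haveI : IsIntegralHom p' := MorphismProperty.of_isPullback H.flip inferInstance
  (LerayAcyc.rightDerivedIso (N p') (push g) (fun I hI => NExact.injective_N p' I hI) F
    (fun q hq => NExact.isZero_rightDerived_N p' F q hq) q).symm ≪≫
  (DerInj.rightDerivedIsoOfInj (cc H.w) (fun I hI => isIso_cc_of_injective H I hI) q).symm.app F ≪≫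
  LerayAcyc.rightDerivedExactIso (push g) (N p) F q

end Groth.Agent.Sga4h.H929.NPush
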