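import Groth.Agent.Sga4h.H929.NShriek
import Groth.Agent.Sga5.EtKilled
import Groth.Agent.S3106
import Mathlib.SetTheory.Cardinal.Finite

/-!
# Finite étale coverings of constant degree, splitting of `F ⟶ p_* p^* F`, counting

* `FE p d` : `p` is finite étale of degree `d`, stable under base change;
* `nonempty_biprod` : `p_* p^* F ≅ F ⊞ N_p F` if `n F = 0` and `d` is prime to `n`;
* `subsingleton_N`, `isZero_N` : counting: if `Φ (p_* p^* F)` and `Φ F` have the same finite cardinality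
  then `Φ (N_p F) = 0`.
-/

set_option autoImplicit false
universe u v w

open CategoryTheory CategoryTheory.Limits AlgebraicGeometry Opposite

namespace Groth.Agent.Sga4h.H929.NSplit

open NDef CokFun Groth.Agent.Sga4h.PushDer EtCoh Groth.Agent.Sga5.EtKilled

/-- `p` is finite étale of degree `d ≥ 1`. -/
structure FE {X Y : Scheme.{u}} (p : Y ⟶ X) (d : ℕ) : Prop where
  fin : IsFinite p
  et : Etale p
  rk : ∀ s, p.finrank s = d
  pos : 0 < d

variable {X Y : Scheme.{u}} {p : Y ⟶ X} {d : ℕ}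

theorem FE.surj (h : FE p d) : Surjective p := by
  have := h.fin
  have := h.et
  rw [← Scheme.Hom.one_le_finrank_iff_surjective]
  intro s
  rw [h.rk]
  exact h.pos

theorem FE.of_isPullback {X' Y' : Scheme.{u}} {p' : Y' ⟶ X'} {g : X' ⟶ X} {g' : Y' ⟶ Y}
    (h : FE p d) (H : IsPullback g' p' p g) : FE p' d where
  fin := by have := h.fin; exact MorphismProperty.of_isPullback H inferInstance
  et := by have := h.et; exact MorphismProperty.of_isPullback H inferInstance
  rk s := by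
    have := h.fin
    have := h.et
    rw [Scheme.Hom.finrank_of_isPullback g' p' p g H]
    exact h.rk _
  pos := h.pos

theorem FE.exists_retract (h : FE p d) {n : ℕ} (hdn : d.Coprime n) {F : Ab X} (hF : KilledBy n F) :
    ∃ r : (push p).obj ((pull p).obj F) ⟶ F, (pullPushAdj p).unit.app F ≫ r = 𝟙 F := by
  have := h.fin
  have := h.et
  obtain ⟨Tr, hTr⟩ := Groth.Agent.S3106.result p d h.rk
  have hab : (d.gcdA n) * d + (d.gcdB n) * n = 1 := by
    have := Nat.gcd_eq_gcd_ab d n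
    rw [hdn.gcd_eq_one] at this
    rw [mul_comm _ (d : ℤ), mul_comm _ (n : ℤ)]
    exact_mod_cast this.symm
  have hn : (n : ℤ) • 𝟙 F = 0 := by
    rw [natCast_zsmul]
    exact (killedBy_iff n).1 hF
  refine ⟨(d.gcdA n) • Tr.app F, ?_⟩
  have h1 : (pullPushAdj p).unit.app F ≫ Tr.app F = (d : ℤ) • 𝟙 F := by
    rw [natCast_zsmul]
    exact hTr F
  rw [Preadditive.comp_zsmul, h1]
  calc (d.gcdA n) • (d : ℤ) • 𝟙 F = ((d.gcdA n) * d + (d.gcdB n) * n) • 𝟙 F := by
        rw [add_smul, mul_smul, mul_smul, hn, smul_zero, add_zero]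
    _ = 𝟙 F := by rw [hab, one_smul]

/-- The splitting of `0 ⟶ F ⟶ p_* p^* F ⟶ N_p F ⟶ 0`. -/
theorem FE.nonempty_splitting (h : FE p d) {n : ℕ} (hdn : d.Coprime n) {F : Ab X}
    (hF : KilledBy n F) :
    Nonempty (ShortComplex.mk ((pullPushAdj p).unit.app F) ((Nπ p).app F) (app_comp_π _ F)).Splitting := by
  have := h.surj
  obtain ⟨r, hr⟩ := h.exists_retract hdn hF
  have hS := NExact.shortExact p F
  exact ⟨ShortComplex.Splitting.ofExactOfRetraction _ hS.exact r hr hS.epi_g⟩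

theorem FE.nonempty_biprod (h : FE p d) {n : ℕ} (hdn : d.Coprime n) {F : Ab X}
    (hF : KilledBy n F) : Nonempty ((push p).obj ((pull p).obj F) ≅ F ⊞ (N p).obj F) := by
  obtain ⟨s⟩ := h.nonempty_splitting hdn hF
  exact ⟨s.isoBinaryBiproduct⟩

theorem killedBy_pushpull {n : ℕ} {F : Ab X} (hF : KilledBy n F) :
    KilledBy n ((push p).obj ((pull p).obj F)) := by
  rw [killedBy_iff] at hF ⊢
  rw [← (push p).map_id, ← (pull p).map_id, ← Functor.map_nsmul, ← Functor.map_nsmul, hF,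
    Functor.map_zero, Functor.map_zero]

theorem killedBy_N {n : ℕ} {F : Ab X} (hF : KilledBy n F) : KilledBy n ((N p).obj F) := by
  have : Epi ((Nπ p).app F) := inferInstance
  exact killedBy_of_epi ((Nπ p).app F) (killedBy_pushpull (p := p) hF)

section count

/-- Counting for additive functors to abelian groups. -/
theorem FE.subsingleton_N (h : FE p d) {n : ℕ} (hdn : d.Coprime n) {F : Ab X} (hF : KilledBy n F)
    (Φ : Ab X ⥤ AddCommGrpCat.{w}) [Φ.Additive] [Finite (Φ.obj F)]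
    (hE : Nonempty (Φ.obj ((push p).obj ((pull p).obj F)) ≃ Φ.obj F)) :
    Subsingleton (Φ.obj ((N p).obj F)) := by
  obtain ⟨s⟩ := h.nonempty_splitting hdn hF
  obtain ⟨E⟩ := hE
  have hfin : Finite (Φ.obj ((𝟭 (Ab X)).obj F)) := inferInstanceAs (Finite (Φ.obj F))
  have h1 : Function.Injective (Φ.map ((pullPushAdj p).unit.app F)) := by
    intro x y hxy
    have h2 := congrArg (Φ.map s.r) hxy
    have h3 : ∀ z, Φ.map s.r (Φ.map ((pullPushAdj p).unit.app F) z) = z := by
      intro z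
      have h4 : Φ.map ((pullPushAdj p).unit.app F) ≫ Φ.map s.r = 𝟙 _ := by
        rw [← Φ.map_comp]
        exact (congrArg _ s.f_r).trans (Φ.map_id _)
      exact congrArg (fun f => f z) (congrArg AddCommGrpCat.Hom.hom h4)
    rwa [h3, h3] at h2
  have h2 : Function.Surjective (Φ.map ((pullPushAdj p).unit.app F)) := by
    have h3 : Function.Injective (fun x => E (Φ.map ((pullPushAdj p).unit.app F) x)) :=
      E.injective.comp h1
    have h4 := Finite.injective_iff_surjective.1 h3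
    intro y
    obtain ⟨x, hx⟩ := h4 (E y)
    exact ⟨x, E.injective hx⟩
  refine ⟨fun x y => ?_⟩
  have key : ∀ x : Φ.obj ((N p).obj F), x = 0 := by
    intro x
    obtain ⟨y, hy⟩ := h2 (Φ.map s.s x)
    have h5 : Φ.map s.s ≫ Φ.map ((Nπ p).app F) = 𝟙 _ := by
      rw [← Φ.map_comp]
      exact (congrArg _ s.s_g).trans (Φ.map_id _)
    have h6 : Φ.map ((Nπ p).app F) (Φ.map s.s x) = x :=
      congrArg (fun f => f x) (congrArg AddCommGrpCat.Hom.hom h5)
    have h7 : Φ.map ((pullPushAdj p).unit.app F) ≫ Φ.map ((Nπ p).app F) = 0 := by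
      rw [← Φ.map_comp]
      exact (congrArg _ (app_comp_π _ F)).trans (Φ.map_zero _ _)
    rw [← h6, ← hy]
    exact congrArg (fun f => f y) (congrArg AddCommGrpCat.Hom.hom h7)
  rw [key x, key y]

/-- Counting for additive functors to abelian sheaves. -/
theorem FE.isZero_N (h : FE p d) {n : ℕ} (hdn : d.Coprime n) {F : Ab X} (hF : KilledBy n F)
    {Z : Scheme.{u}} (Φ : Ab X ⥤ Ab Z) [Φ.Additive]
    (hfin : ∀ z : Z, ∃ (Ω : Type u) (_ : Field Ω) (_ : IsSepClosed Ω)
      (ξ : Spec (CommRingCat.of Ω) ⟶ Z), ξ default = z ∧ Finite ((stalk ξ).obj (Φ.obj F)))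
    (hE : Nonempty (Φ.obj ((push p).obj ((pull p).obj F)) ≅ Φ.obj F)) :
    IsZero (Φ.obj ((N p).obj F)) := by
  refine Etcore.Stalks.isZero_of_stalks _ fun z => ?_
  obtain ⟨Ω, i1, i2, ξ, hξ, hf⟩ := hfin z
  refine ⟨Ω, i1, i2, ξ, hξ, ?_⟩
  obtain ⟨E⟩ := hE
  have h0 : (Φ ⋙ stalk ξ).Additive := inferInstance
  have hf' : Finite ((Φ ⋙ stalk ξ).obj F) := hf
  have h1 := h.subsingleton_N hdn hF (Φ ⋙ stalk ξ)
    ⟨((forget AddCommGrpCat).mapIso ((stalk ξ).mapIso E)).toEquiv⟩
  exact @AddCommGrpCat.isZero_of_subsingleton ((stalk ξ).obj (Φ.obj ((N p).obj F))) h1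

end count

end Groth.Agent.Sga4h.H929.NSplit
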