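import Groth.Agent.Sga4h.H929.StalkLib
import Groth.Agent.Sga4h.H929.Hyp
import Groth.Agent.Etcore.ShriekBaseChange

/-!
# Base change for `R^i f_* j_!`, `f` proper
-/

set_option autoImplicit false
universe u

open CategoryTheory CategoryTheory.Limits AlgebraicGeometry Opposite

namespace Groth.Agent.Sga4h.H929.BC

open EtCoh StalkLib Hyp

/-- A sheaf killed by `m ≠ 0` is torsion. -/
theorem isTorsion_of_killedBy {X : Scheme.{u}} {m : ℕ} (hm : 0 < m) {F : EtCoh.Ab X}
    (h : EtCoh.KilledBy m F) : EtCoh.IsTorsion F := by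
  intro U s x
  refine ⟨U, 𝟙 U, ⟨x, rfl⟩, ?_⟩
  rw [isOfFinAddOrder_iff_nsmul_eq_zero]
  exact ⟨m, hm, h U _⟩

theorem nonempty_bc (hP : ProperBC.{u}) {X P S X' T : Scheme.{u}} (j : X ⟶ P) [IsOpenImmersion j]
    (f : P ⟶ S) [IsProper f] (g : T ⟶ S) (g' : X' ⟶ X) (a' : X' ⟶ T)
    (H : IsPullback g' a' (j ≫ f) g) {n : ℕ} (hn : 0 < n) (G : Ab X) (hG : KilledBy n G) :
    ∃ (P' : Scheme.{u}) (j' : X' ⟶ P') (_ : IsOpenImmersion j') (f' : P' ⟶ T) (_ : IsProper f')
      (c : P' ⟶ P), j' ≫ f' = a' ∧ IsPullback c f' f g ∧ IsPullback j' g' c j ∧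
      ∀ i : ℕ, Nonempty ((pull g).obj ((Rpush f i).obj ((EtShriek.extZero j).obj G)) ≅
        (Rpush f' i).obj ((EtShriek.extZero j').obj ((pull g').obj G))) := by
  have H1 : IsPullback (pullback.fst f g) (pullback.snd f g) f g := IsPullback.of_hasPullback f g
  let j' : X' ⟶ pullback f g := pullback.lift (g' ≫ j) a' (by rw [Category.assoc, H.w])
  have e1 : j' ≫ pullback.fst f g = g' ≫ j := pullback.lift_fst _ _ _
  have e2 : j' ≫ pullback.snd f g = a' := pullback.lift_snd _ _ _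
  have H2 : IsPullback j' g' (pullback.fst f g) j := by
    refine IsPullback.of_right ?_ e1 H1.flip
    rw [e2]
    exact H.flip
  have hj' : IsOpenImmersion j' := MorphismProperty.of_isPullback H2.flip inferInstance
  refine ⟨pullback f g, j', hj', pullback.snd f g, inferInstance, pullback.fst f g, e2, H1, H2,
    fun i => ?_⟩
  obtain ⟨e⟩ := hP f g (pullback.snd f g) (pullback.fst f g) H1 ((EtShriek.extZero j).obj G)
    (isTorsion_of_killedBy hn (killedBy_obj (EtShriek.extZero j) hG)) i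
  exact ⟨e ≪≫ (Rpush _ i).mapIso
    ((Groth.Agent.Etcore.ShriekBaseChange.extZeroBaseChange j _ j' g' H2).symm.app G)⟩

end Groth.Agent.Sga4h.H929.BC
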