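import Mathlib.CategoryTheory.Abelian.Refinements
import Mathlib.CategoryTheory.Abelian.Exact
import Mathlib.Algebra.Homology.ShortComplex.ExactFunctor
import Mathlib.CategoryTheory.Preadditive.Injective.Basic

/-!
# Cokernel of a natural transformation between exact functors

`cok η : C ⥤ D`, `X ↦ coker (η_X : F X ⟶ G X)`.  If `F`, `G` are exact and `η` is objectwise a
monomorphism then `cok η` is exact.
-/

set_option autoImplicit false

open CategoryTheory CategoryTheory.Limits

namespace Groth.Agent.Sga4h.H929.CokFun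

universe v₁ v₂ u₁ u₂

variable {C : Type u₁} {D : Type u₂} [Category.{v₁} C] [Category.{v₂} D] [Abelian C] [Abelian D]
  {F G : C ⥤ D} (η : F ⟶ G)

/-- the cokernel of a natural transformation -/
noncomputable def cok : C ⥤ D where
  obj X := cokernel (η.app X)
  map φ := cokernel.map _ _ (F.map φ) (G.map φ) (η.naturality φ).symm
  map_id F := by
    apply coequalizer.hom_ext
    simp
  map_comp φ ψ := by
    apply coequalizer.hom_ext
    simp

/-- the projection onto the cokernel -/
noncomputable def cokπ : G ⟶ cok η where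
  app X := cokernel.π (η.app X)
  naturality X Y φ := by simp [cok]

@[reassoc (attr := simp)]
theorem app_comp_π (X : C) : η.app X ≫ (cokπ η).app X = 0 := cokernel.condition _

instance epi_π (X : C) : Epi ((cokπ η).app X) := inferInstanceAs (Epi (cokernel.π (η.app X)))

/-- the universal property of the cokernel -/
noncomputable def isColimit (X : C) :
    IsColimit (CokernelCofork.ofπ ((cokπ η).app X) (app_comp_π η X)) :=
  cokernelIsCokernel (η.app X)

/-- maps out of the cokernel -/
noncomputable def desc {X : C} {Y : D} (a : G.obj X ⟶ Y) (h : η.app X ≫ a = 0) : (cok η).obj X ⟶ Y :=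
  cokernel.desc _ a h

@[reassoc (attr := simp)]
theorem π_desc {X : C} {Y : D} (a : G.obj X ⟶ Y) (h : η.app X ≫ a = 0) :
    (cokπ η).app X ≫ desc η a h = a :=
  cokernel.π_desc _ _ _

instance [F.Additive] [G.Additive] : (cok η).Additive where
  map_add {X Y f g} := by
    rw [← cancel_epi ((cokπ η).app X), ← (cokπ η).naturality, Preadditive.comp_add,
      ← (cokπ η).naturality, ← (cokπ η).naturality, G.map_add, Preadditive.add_comp]

theorem exact_col (X : C) : (ShortComplex.mk (η.app X) ((cokπ η).app X) (app_comp_π η X)).Exact :=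
  ShortComplex.exact_cokernel _

theorem lift_col {X : C} {T : D} (a : T ⟶ G.obj X) (h : a ≫ (cokπ η).app X = 0) :
    ∃ (T' : D) (π : T' ⟶ T) (_ : Epi π) (b : T' ⟶ F.obj X), π ≫ a = b ≫ η.app X :=
  (exact_col η X).exact_up_to_refinements _ h

theorem lift_row {S : ShortComplex C} {H : C ⥤ D} [H.Additive] (hH : (S.map H).ShortExact) {T : D}
    (a : T ⟶ H.obj S.X₂) (h : a ≫ H.map S.g = 0) :
    ∃ (T' : D) (π : T' ⟶ T) (_ : Epi π) (b : T' ⟶ H.obj S.X₁), π ≫ a = b ≫ H.map S.f :=
  hH.exact.exact_up_to_refinements _ h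

variable [F.Additive] [G.Additive]

theorem mono_cok_map (hη : ∀ X, Mono (η.app X)) {S : ShortComplex C} (hF : (S.map F).ShortExact)
    (hG : (S.map G).ShortExact) : Mono ((cok η).map S.f) := by
  rw [Preadditive.mono_iff_cancel_zero]
  intro T x hx
  obtain ⟨T1, π1, _, a, ha⟩ := surjective_up_to_refinements_of_epi ((cokπ η).app S.X₁) x
  have h1 : (a ≫ G.map S.f) ≫ (cokπ η).app S.X₂ = 0 := by
    rw [Category.assoc, (cokπ η).naturality, ← reassoc_of% ha, hx, comp_zero]
  obtain ⟨T2, π2, _, b, hb⟩ := lift_col η _ h1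
  have h2 : (b ≫ F.map S.g) ≫ η.app S.X₃ = 0 := by
    have e1 : G.map S.f ≫ G.map S.g = 0 := by rw [← G.map_comp, S.zero, G.map_zero]
    rw [Category.assoc, η.naturality, ← reassoc_of% hb, e1, comp_zero, comp_zero]
  have h3 : b ≫ F.map S.g = 0 := by
    have := hη S.X₃
    exact zero_of_comp_mono _ h2
  obtain ⟨T3, π3, _, c, hc⟩ := lift_row hF b h3
  have h4 : π3 ≫ π2 ≫ a = c ≫ η.app S.X₁ := by
    have : Mono (G.map S.f) := hG.mono_f
    rw [← cancel_mono (G.map S.f)]
    simp only [Category.assoc]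
    rw [hb, ← η.naturality, reassoc_of% hc]
  have h5 : π3 ≫ π2 ≫ π1 ≫ x = 0 := by
    rw [ha, reassoc_of% h4, app_comp_π, comp_zero]
  rw [← cancel_epi π1, ← cancel_epi π2, ← cancel_epi π3, h5, comp_zero, comp_zero, comp_zero]

theorem exact_cok_map {S : ShortComplex C} (hF : (S.map F).ShortExact)
    (hG : (S.map G).ShortExact) : (S.map (cok η)).Exact := by
  rw [ShortComplex.exact_iff_exact_up_to_refinements]
  intro T (x : T ⟶ (cok η).obj S.X₂) (hx : x ≫ (cok η).map S.g = 0)
  obtain ⟨T1, π1, _, b, hb⟩ := surjective_up_to_refinements_of_epi ((cokπ η).app S.X₂) x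
  have h1 : (b ≫ G.map S.g) ≫ (cokπ η).app S.X₃ = 0 := by
    rw [Category.assoc, (cokπ η).naturality, ← reassoc_of% hb, hx, comp_zero]
  obtain ⟨T2, π2, _, c, hc⟩ := lift_col η _ h1
  have : Epi (F.map S.g) := hF.epi_g
  obtain ⟨T3, π3, _, d, hd⟩ := surjective_up_to_refinements_of_epi (F.map S.g) c
  have h2 : (π3 ≫ π2 ≫ b - d ≫ η.app S.X₂) ≫ G.map S.g = 0 := by
    rw [Preadditive.sub_comp, Category.assoc, Category.assoc, Category.assoc, hc, ← η.naturality,
      reassoc_of% hd, sub_self]
  obtain ⟨T4, π4, _, a, ha⟩ := lift_row hG _ h2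
  refine ⟨T4, π4 ≫ π3 ≫ π2 ≫ π1, inferInstance, a ≫ (cokπ η).app S.X₁, ?_⟩
  change (π4 ≫ π3 ≫ π2 ≫ π1) ≫ (x : T ⟶ (cok η).obj S.X₂) =
    (a ≫ (cokπ η).app S.X₁) ≫ (cok η).map S.f
  rw [Category.assoc a, ← (cokπ η).naturality, ← reassoc_of% ha, Preadditive.sub_comp,
    Preadditive.comp_sub]
  simp only [Category.assoc]
  rw [app_comp_π, comp_zero, comp_zero, sub_zero, hb]

theorem epi_cok_map {S : ShortComplex C} (hG : (S.map G).ShortExact) : Epi ((cok η).map S.g) := by
  have h1 : Epi (G.map S.g ≫ (cokπ η).app S.X₃) := by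
    have : Epi (G.map S.g) := hG.epi_g
    infer_instance
  rw [(cokπ η).naturality] at h1
  exact epi_of_epi ((cokπ η).app S.X₂) _

theorem shortExact_cok (hη : ∀ X, Mono (η.app X)) {S : ShortComplex C} (hF : (S.map F).ShortExact)
    (hG : (S.map G).ShortExact) : (S.map (cok η)).ShortExact where
  exact := exact_cok_map η hF hG
  mono_f := mono_cok_map η hη hF hG
  epi_g := epi_cok_map η hG

theorem preserves (hη : ∀ X, Mono (η.app X)) [PreservesFiniteLimits F] [PreservesFiniteColimits F]
    [PreservesFiniteLimits G] [PreservesFiniteColimits G] :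
    PreservesFiniteLimits (cok η) ∧ PreservesFiniteColimits (cok η) := by
  have h := (cok η).exact_tfae
  refine (h.out 0 3 (by rfl) (by rfl)).1 ?_
  intro S hS
  exact shortExact_cok η hη (hS.map_of_exact F) (hS.map_of_exact G)

omit [F.Additive] [G.Additive] in
/-- `cok η` of an object where `F X ⟶ G X` is a monomorphism between injectives -/
theorem injective_cok {X : C} [Mono (η.app X)] (hF : Injective (F.obj X)) (hG : Injective (G.obj X)) :
    Injective ((cok η).obj X) := by
  let S := ShortComplex.mk (η.app X) ((cokπ η).app X) (app_comp_π η X)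
  have hS : S.ShortExact :=
    { exact := exact_col η X
      mono_f := inferInstanceAs (Mono (η.app X))
      epi_g := inferInstanceAs (Epi ((cokπ η).app X)) }
  let s := hS.splittingOfInjective
  have h1 : s.s ≫ (cokπ η).app X = 𝟙 _ := s.s_g
  refine ⟨fun {A B} g f _ => ?_⟩
  obtain ⟨k, hk⟩ := hG.factors (g ≫ s.s) f
  refine ⟨k ≫ (cokπ η).app X, ?_⟩
  rw [reassoc_of% hk, h1, Category.comp_id]

end Groth.Agent.Sga4h.H929.CokFun
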