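import Groth.Agent.EtpbcB.GammaRpush
import Groth.Agent.Etcore.Stalks

/-!
# `R^n a_* F = 0` iff `H^n(X, F) = 0` for `a : X ⟶ Spec k`, `k` separably closed
-/

set_option autoImplicit false
universe u

open CategoryTheory CategoryTheory.Limits AlgebraicGeometry Opposite

namespace Groth.Agent.Sga4h.H929.HZ

open EtCoh

variable {k : Type u} [Field k] [IsSepClosed k] {X : Scheme.{u}} (a : X ⟶ Spec (CommRingCat.of k))

theorem isZero_Rpush_iff (F : Ab X) (n : ℕ) : IsZero ((Rpush a n).obj F) ↔ Subsingleton (H X F n) := by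
  obtain ⟨e⟩ := Groth.Agent.EtpbcB.GammaRpush.stalk_id_Rpush a F n
  constructor
  · intro h
    have h1 := (stalk (Groth.Agent.EtpbcB.SepClosedPoint.pt k)).map_isZero h
    have h2 := AddCommGrpCat.subsingleton_of_isZero h1
    exact e.symm.toEquiv.subsingleton
  · intro h
    refine Etcore.Stalks.isZero_of_stalks _ fun x => ⟨k, inferInstance, inferInstance,
      Groth.Agent.EtpbcB.SepClosedPoint.pt k, Subsingleton.elim (α := PrimeSpectrum k) _ _, ?_⟩
    have h1 : Subsingleton ((stalk (Groth.Agent.EtpbcB.SepClosedPoint.pt k)).obj ((Rpush a n).obj F)) :=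
      e.toEquiv.subsingleton
    exact AddCommGrpCat.isZero_of_subsingleton _

end Groth.Agent.Sga4h.H929.HZ
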