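import Groth.Agent.Sga4h.H929.NPush
import Groth.Agent.EtpbcB.IntegralDegZero

/-!
# `N_p` commutes with inverse images

For a cartesian square `g' : Y' ⟶ Y`, `p' : Y' ⟶ X'`, `p : Y ⟶ X`, `g : X' ⟶ X` with `p` integral:
`g^* (N_p F) ≅ N_{p'} (g^* F)` (`pullIso`).
-/

set_option autoImplicit false
universe u

open CategoryTheory CategoryTheory.Limits AlgebraicGeometry Opposite

namespace Groth.Agent.Sga4h.H929.NPull

open NDef CokFun Groth.Agent.Sga4h.PushDer EtCoh Groth.Agent.EtpbcB Groth.Agent.EtpbcB.BCCalc

section unit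

variable {X Y X' Y' : Scheme.{u}} {f : X ⟶ Y} {g : Y' ⟶ Y} {f' : X' ⟶ Y'} {g' : X' ⟶ X}

/-- `f'^* g^* ≅ g'^* f^*`. -/
noncomputable def kap (w : g' ≫ f = f' ≫ g) : pull g ⋙ pull f' ≅ pull f ⋙ pull g' :=
  pullComp g f' ≪≫ (pullCongr w).symm ≪≫ (pullComp f g').symm

theorem pull_unit_baseChange0 (w : g' ≫ f = f' ≫ g) (G : Ab Y) :
    (pull g).map ((pullPushAdj f).unit.app G) ≫ baseChange0 f g f' g' w ((pull f).obj G) =
      (pullPushAdj f').unit.app ((pull g).obj G) ≫ (push f').map ((kap w).hom.app G) := by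
  apply ((pullPushAdj g).homEquiv _ _).injective
  rw [Adjunction.homEquiv_unit, Adjunction.homEquiv_unit, Functor.map_comp, Functor.map_comp]
  have h1 := (pullPushAdj g).unit.naturality ((pullPushAdj f).unit.app G)
  have h2 := unit_baseChange0 w ((pull f).obj G)
  have h3 := unit_pullComp f g' G
  have h4 := unit_pullComp g f' G
  have h5 := unit_pullCongr w G
  let m : (pull g').obj ((pull f).obj G) ⟶ (pull (f' ≫ g)).obj G :=
    (pullComp f g').hom.app G ≫ (pullCongr w).hom.app G
  let M : (push g).obj ((push f').obj ((pull g').obj ((pull f).obj G))) ⟶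
      (push (f' ≫ g)).obj ((pull (f' ≫ g)).obj G) :=
    (push g).map ((push f').map m) ≫ (pushComp g f').hom.app _
  have hM : Mono M := inferInstance
  rw [← cancel_mono M]
  have hk : (kap w).hom.app G ≫ m = (pullComp g f').hom.app G := by
    simp only [kap, m, Iso.trans_hom, Iso.symm_hom, NatTrans.comp_app, Category.assoc]
    rw [Iso.inv_hom_id_app_assoc, Iso.inv_hom_id_app, Category.comp_id]
  have hR : ((pullPushAdj g).unit.app G ≫ (push g).map ((pullPushAdj f').unit.app ((pull g).obj G)) ≫
      (push g).map ((push f').map ((kap w).hom.app G))) ≫ M =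
      (pullPushAdj (f' ≫ g)).unit.app G := by
    have e : (push g).map ((push f').map ((kap w).hom.app G)) ≫ (push g).map ((push f').map m) =
        (push g).map ((push f').map ((pullComp g f').hom.app G)) := by
      rw [← Functor.map_comp, ← Functor.map_comp, hk]
    rw [h4]
    simp only [M, Category.assoc]
    rw [reassoc_of% e]
  have n1 : (sq w).hom.app ((pull g').obj ((pull f).obj G)) ≫ M =
      (push f).map ((push g').map m) ≫ (pushComp f g').hom.app _ ≫ (pushCongr w).hom.app _ := by
    have e1 := (pushComp g f').inv.naturality m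
    have e2 := (pushCongr w).hom.naturality m
    have e3 := (pushComp f g').hom.naturality m
    have e1' : (pushComp g f').inv.app ((pull g').obj ((pull f).obj G)) ≫
        (push g).map ((push f').map m) ≫ (pushComp g f').hom.app _ = (push (f' ≫ g)).map m := by
      have e0 := e1.symm
      rw [Functor.comp_map] at e0
      rw [← Category.assoc, e0, Category.assoc, Iso.inv_hom_id_app]
      exact Category.comp_id _
    simp only [BCCalc.sq, M, Iso.trans_hom, Iso.symm_hom, NatTrans.comp_app, Category.assoc]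
    rw [e1', ← e2, ← reassoc_of% e3]
  refine Eq.trans ?_ (hR.symm)
  rw [h5, h3]
  calc _ = ((pullPushAdj g).unit.app G ≫ (push g).map ((pull g).map ((pullPushAdj f).unit.app G)) ≫
        (push g).map (baseChange0 f g f' g' w ((pull f).obj G))) ≫ M := rfl
    _ = (pullPushAdj f).unit.app G ≫ ((pullPushAdj g).unit.app _ ≫
        (push g).map (baseChange0 f g f' g' w ((pull f).obj G))) ≫ M := by
        have h1' : (pullPushAdj g).unit.app G ≫
            (push g).map ((pull g).map ((pullPushAdj f).unit.app G)) =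
              (pullPushAdj f).unit.app G ≫ (pullPushAdj g).unit.app _ := h1.symm
        simp only [Category.assoc]
        rw [reassoc_of% h1']
    _ = _ := by
        rw [h2]
        simp only [Category.assoc]
        rw [n1]
        have e4 := (pushComp f g').hom.naturality ((pullCongr w).hom.app G)
        simp only [m, Functor.map_comp, Category.assoc]
        rw [← reassoc_of% e4]

end unit

variable {X Y X' Y' : Scheme.{u}} {p : Y ⟶ X} {g : X' ⟶ X} {p' : Y' ⟶ X'} {g' : Y' ⟶ Y}

/-- `g^* p_* p^* F ⟶ p'_* p'^* g^* F`. -/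
noncomputable def th (w : g' ≫ p = p' ≫ g) :
    (pull p ⋙ push p) ⋙ pull g ⟶ pull g ⋙ pull p' ⋙ push p' where
  app F := baseChange0 p g p' g' w ((pull p).obj F) ≫ (push p').map ((kap w).inv.app F)
  naturality F G φ := by
    have h1 := Etcore.PullJoint.baseChange0_naturality p g p' g' w ((pull p).map φ)
    have h2 := (kap w).inv.naturality φ
    have h2' : (pull g').map ((pull p).map φ) ≫ (kap w).inv.app G =
      (kap w).inv.app F ≫ (pull p').map ((pull g).map φ) := h2
    change (pull g).map ((push p).map ((pull p).map φ)) ≫ baseChange0 p g p' g' w ((pull p).obj G) ≫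
      (push p').map ((kap w).inv.app G) = (baseChange0 p g p' g' w ((pull p).obj F) ≫
        (push p').map ((kap w).inv.app F)) ≫ (push p').map ((pull p').map ((pull g).map φ))
    rw [Category.assoc, ← Functor.map_comp, ← h2', ← Category.assoc, h1, Functor.map_comp,
      Category.assoc]

@[reassoc]
theorem unit_th (w : g' ≫ p = p' ≫ g) (F : Ab X) :
    (pull g).map ((pullPushAdj p).unit.app F) ≫ (th w).app F =
      (pullPushAdj p').unit.app ((pull g).obj F) := by
  have h := pull_unit_baseChange0 w F
  have h' : (pull g).map ((pullPushAdj p).unit.app F) ≫ baseChange0 p g p' g' w ((pull p).obj F) ≫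
      (push p').map ((kap w).inv.app F) = ((pullPushAdj p').unit.app ((pull g).obj F) ≫
        (push p').map ((kap w).hom.app F)) ≫ (push p').map ((kap w).inv.app F) := by
    rw [← h, Category.assoc]
  refine h'.trans ?_
  rw [Category.assoc, ← Functor.map_comp, Iso.hom_inv_id_app]
  have h3 : (push p').map (𝟙 ((pull g ⋙ pull p').obj F)) = 𝟙 _ := (push p').map_id _
  rw [h3]
  exact Category.comp_id _

theorem isIso_th (H : IsPullback g' p' p g) [IsIntegralHom p] (F : Ab X) :
    IsIso ((th H.w).app F) := by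
  have h1 := EtpbcB.IntegralDegZero.isIso_baseChange0 p H ((pull p).obj F)
  exact inferInstanceAs (IsIso (baseChange0 p g p' g' H.w ((pull p).obj F) ≫
    (push p').map ((kap H.w).inv.app F)))

/-- `g^* (N_p F)` is a cokernel. -/
noncomputable def isColimitPull (F : Ab X) :
    IsColimit (CokernelCofork.ofπ ((pull g).map ((Nπ p).app F))
      (show (pull g).map ((pullPushAdj p).unit.app F) ≫ (pull g).map ((Nπ p).app F) = 0 by
        rw [← Functor.map_comp]
        exact (congrArg _ (app_comp_π _ F)).trans ((pull g).map_zero _ _))) :=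
  CokernelCofork.mapIsColimit _ (isColimit (pullPushAdj p).unit F) (pull g)

theorem exists_cc (w : g' ≫ p = p' ≫ g) (F : Ab X) :
    ∃ b : (pull g).obj ((N p).obj F) ⟶ (N p').obj ((pull g).obj F),
      (pull g).map ((Nπ p).app F) ≫ b = (th w).app F ≫ (Nπ p').app ((pull g).obj F) := by
  have h0 : (pull g).map ((pullPushAdj p).unit.app F) ≫ (th w).app F ≫
        (Nπ p').app ((pull g).obj F) = 0 := by
    have h1 : (pullPushAdj p').unit.app ((pull g).obj F) ≫ (Nπ p').app ((pull g).obj F) = 0 :=
      app_comp_π _ _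
    rw [← Category.assoc, unit_th]
    exact h1
  exact ⟨(isColimitPull (g := g) (p := p) F).desc
    (CokernelCofork.ofπ ((th w).app F ≫ (Nπ p').app ((pull g).obj F)) h0),
    Cofork.IsColimit.π_desc (isColimitPull (g := g) (p := p) F)⟩

/-- `g^* N_p ⟶ N_{p'} g^*` -/
noncomputable def ccApp (w : g' ≫ p = p' ≫ g) (F : Ab X) :
    (pull g).obj ((N p).obj F) ⟶ (N p').obj ((pull g).obj F) :=
  (exists_cc w F).choose

@[reassoc]
theorem π_ccApp (w : g' ≫ p = p' ≫ g) (F : Ab X) :
    (pull g).map ((Nπ p).app F) ≫ ccApp w F = (th w).app F ≫ (Nπ p').app ((pull g).obj F) :=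
  (exists_cc w F).choose_spec

instance epi_pull_π (F : Ab X) : Epi ((pull g).map ((Nπ p).app F)) := by
  have : Epi ((Nπ p).app F) := inferInstance
  infer_instance

/-- `g^* N_p ⟶ N_{p'} g^*` as a natural transformation -/
noncomputable def cc (w : g' ≫ p = p' ≫ g) : N p ⋙ pull g ⟶ pull g ⋙ N p' where
  app F := ccApp w F
  naturality F G φ := by
    have e := epi_pull_π (g := g) (p := p) F
    rw [← cancel_epi ((pull g).map ((Nπ p).app F))]
    have h1 : (pull g).map ((Nπ p).app F) ≫ (pull g).map ((N p).map φ) =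
      (pull g).map ((pull p ⋙ push p).map φ) ≫ (pull g).map ((Nπ p).app G) := by
      rw [← Functor.map_comp, ← Functor.map_comp, (Nπ p).naturality]
    have h2 : (pull g).map ((pull p ⋙ push p).map φ) ≫ (th w).app G =
      (th w).app F ≫ (pull p' ⋙ push p').map ((pull g).map φ) := (th w).naturality φ
    have h3 : (push p').map ((pull p').map ((pull g).map φ)) ≫ (Nπ p').app ((pull g).obj G) =
      (Nπ p').app ((pull g).obj F) ≫ (N p').map ((pull g).map φ) :=
      (Nπ p').naturality ((pull g).map φ)
    change (pull g).map ((Nπ p).app F) ≫ (pull g).map ((N p).map φ) ≫ ccApp w G =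
      (pull g).map ((Nπ p).app F) ≫ ccApp w F ≫ (N p').map ((pull g).map φ)
    rw [reassoc_of% h1, π_ccApp, reassoc_of% h2, h3, π_ccApp_assoc]

theorem isIso_cc (H : IsPullback g' p' p g) [IsIntegralHom p] (F : Ab X) :
    IsIso ((cc H.w).app F) := by
  obtain ⟨t, ht1, ht2⟩ := (isIso_th H F).out
  have h0 : (pullPushAdj p').unit.app ((pull g).obj F) ≫ t ≫ (pull g).map ((Nπ p).app F) = 0 := by
    have h1 : (pull g).map ((pullPushAdj p).unit.app F) ≫ (pull g).map ((Nπ p).app F) = 0 := by
      rw [← Functor.map_comp]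
      exact (congrArg _ (app_comp_π _ F)).trans ((pull g).map_zero _ _)
    rw [← unit_th H.w, Category.assoc, reassoc_of% ht1]
    exact h1
  let b : (N p').obj ((pull g).obj F) ⟶ (pull g).obj ((N p).obj F) :=
    desc (pullPushAdj p').unit (X := (pull g).obj F) (t ≫ (pull g).map ((Nπ p).app F)) h0
  have hb : (Nπ p').app ((pull g).obj F) ≫ b = t ≫ (pull g).map ((Nπ p).app F) := π_desc _ _ _
  refine ⟨b, ?_, ?_⟩
  · have e := epi_pull_π (g := g) (p := p) F
    rw [← cancel_epi ((pull g).map ((Nπ p).app F))]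
    change (pull g).map ((Nπ p).app F) ≫ ccApp H.w F ≫ b = _
    rw [π_ccApp_assoc, hb, reassoc_of% ht1]
    exact (Category.comp_id _).symm
  · rw [← cancel_epi ((Nπ p').app ((pull g).obj F)), reassoc_of% hb]
    change t ≫ (pull g).map ((Nπ p).app F) ≫ ccApp H.w F = _
    rw [π_ccApp, reassoc_of% ht2]
    exact (Category.comp_id _).symm

/-- `g^* (N_p F) ≅ N_{p'} (g^* F)` -/
noncomputable def pullIso (H : IsPullback g' p' p g) [IsIntegralHom p] :
    N p ⋙ pull g ≅ pull g ⋙ N p' :=
  haveI := fun F => isIso_cc H F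
  NatIso.ofComponents (fun F => asIso ((cc H.w).app F)) (fun φ => (cc H.w).naturality φ)

end Groth.Agent.Sga4h.H929.NPull
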