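import Groth.Agent.Sga4h.H929.NDef
import Groth.Agent.Etcore.IntUnivInj
import Mathlib.RingTheory.Spectrum.Prime.Homeomorph
import Mathlib.AlgebraicGeometry.Morphisms.UniversallyInjective
import Mathlib.AlgebraicGeometry.Morphisms.Integral
import Mathlib.Algebra.CharP.Frobenius

/-!
# Universal homeomorphisms given by ring maps with `q`-th powers in the image

`R`, `R'` rings with `p = 0`, `q = p ^ e`, `s : R →+* R'` with `r' ^ q ∈ s R` for all `r'` and nilpotent
kernel: then `Spec s` is integral, universally injective and surjective, and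
`G ⟶ (Spec s)_* (Spec s)^* G` is an isomorphism.
-/

set_option autoImplicit false
universe u

open CategoryTheory CategoryTheory.Limits AlgebraicGeometry Opposite

namespace Groth.Agent.Sga4h.H929.UH

theorem pow_inj {L : Type u} [Field L] {p : ℕ} [hp : Fact p.Prime] (hL : (p : L) = 0) (e : ℕ) {x y : L}
    (h : x ^ p ^ e = y ^ p ^ e) : x = y := by
  have : CharP L p := (CharP.charP_iff_prime_eq_zero hp.out).2 hL
  have h1 : (x - y) ^ p ^ e = 0 := by
    rw [sub_pow_char_pow, h, sub_self]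
  exact sub_eq_zero.1 (pow_eq_zero_iff (pow_ne_zero e hp.out.ne_zero) |>.1 h1)

variable {R R' : Type u} [CommRing R] [CommRing R'] (s : R →+* R') {p : ℕ} [hp : Fact p.Prime] (e : ℕ)

theorem universallyInjective (hpR : (p : R') = 0) (h : ∀ r' : R', ∃ r : R, s r = r' ^ p ^ e) :
    UniversallyInjective (Spec.map (CommRingCat.ofHom s)) := by
  refine ((tfae_universallyInjective (f := Spec.map (CommRingCat.ofHom s))).out 0 1).2 ?_
  intro L _ g₁ g₂ hg
  obtain ⟨ψ₁, rfl⟩ := Spec.map_surjective g₁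
  obtain ⟨ψ₂, rfl⟩ := Spec.map_surjective g₂
  congr 1
  apply CommRingCat.hom_ext
  ext r'
  obtain ⟨r, hr⟩ := h r'
  have h1 : Spec.map (CommRingCat.ofHom s ≫ ψ₁) = Spec.map (CommRingCat.ofHom s ≫ ψ₂) := by
    rw [Spec.map_comp, Spec.map_comp]
    exact hg
  have h2 := Spec.map_injective h1
  have h3 : ψ₁.hom (s r) = ψ₂.hom (s r) :=
    DFunLike.congr_fun (congrArg CommRingCat.Hom.hom h2) r
  rw [hr, map_pow, map_pow] at h3
  have h4 : (p : L) = 0 := by
    have := congrArg ψ₁.hom hpR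
    rwa [map_natCast, map_zero] at this
  exact pow_inj h4 e h3

theorem isIntegralHom (h : ∀ r' : R', ∃ r : R, s r = r' ^ p ^ e) :
    IsIntegralHom (Spec.map (CommRingCat.ofHom s)) := by
  rw [IsIntegralHom.SpecMap_iff]
  intro r'
  obtain ⟨r, hr⟩ := h r'
  refine ⟨Polynomial.X ^ p ^ e - Polynomial.C r, ?_, ?_⟩
  · exact Polynomial.monic_X_pow_sub_C r (pow_ne_zero e hp.out.ne_zero)
  · change Polynomial.eval₂ s r' _ = 0
    rw [Polynomial.eval₂_sub, Polynomial.eval₂_X_pow, Polynomial.eval₂_C, hr, sub_self]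

theorem surjective (h : ∀ r' : R', ∃ r : R, s r = r' ^ p ^ e) (hk : RingHom.ker s ≤ nilradical R) :
    Surjective (Spec.map (CommRingCat.ofHom s)) := by
  have h1 := PrimeSpectrum.isHomeomorph_comap s
    (fun x => ⟨p ^ e, pow_pos hp.out.pos e, let ⟨r, hr⟩ := h x; ⟨r, hr⟩⟩) hk
  exact ⟨h1.surjective⟩

theorem isIso_unit {X Y : Scheme.{u}} (f : X ⟶ Y) [IsIntegralHom f] [UniversallyInjective f]
    [Surjective f] (G : EtCoh.Ab Y) : IsIso ((EtCoh.pullPushAdj f).unit.app G) := by
  apply Etcore.IntUnivInj.isIso_unit_of_supp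
  rw [f.surjective.range_eq]
  exact Set.subset_univ _

end Groth.Agent.Sga4h.H929.UH
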